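import Mathlib
import Cfsg.Agent.Lib.Coprime.Basic
import Cfsg.Agent.Lib.Cores.Nilpotent

/-!
# A self-centralising central product of two quaternion groups in a 2-group

Elementary properties of `Q ≅ Q₈ ∗ Q₈` with `C(Q) ≤ Q` inside a finite 2-group, and of a normal
subgroup `A` of order 8 and exponent 2: `A` lies in `Q`, and `Q` induces on `A` every
transvection with centre `z`.
-/

set_option autoImplicit false
set_option linter.style.haveILetI false
set_option linter.unusedSectionVars false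

namespace Cfsg.Agent.PGroups.Q8Q8

universe u

variable {S : Type u} [Group S] [Finite S]

/-- Membership in the group of order two generated by `z`. -/
def InZ (z x : S) : Prop := x = 1 ∨ x = z

/-- The properties of `Q ≅ Q₈ ∗ Q₈` with centre `⟨z⟩` and `C(Q) ≤ Q` that are used. -/
structure Setup (Q : Subgroup S) (z : S) : Prop where
  zmem : z ∈ Q
  zne : z ≠ 1
  zz : z * z = 1
  zcen : z ∈ Subgroup.center S
  cen : ∀ x : S, (∀ y ∈ Q, x * y = y * x) → InZ z x
  comm : ∀ x ∈ Q, ∀ y ∈ Q, InZ z (x * y * x⁻¹ * y⁻¹)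
  sq : ∀ x ∈ Q, InZ z (x * x)
  card : Nat.card Q = 32
  gen : ∃ g : Fin 4 → S, (∀ i, g i ∈ Q) ∧ ∀ K : Subgroup S, (∀ i, g i ∈ K) → Q ≤ K

/-- A step of a chief series: an element of `C ∖ N` central modulo `N` with square in `N`. -/
theorem exists_step (hS : IsPGroup 2 S) {G N C : Subgroup S}
    (hN : G ≤ Subgroup.normalizer (N : Set S)) (hC : G ≤ Subgroup.normalizer (C : Set S))
    (hCG : C ≤ G) (hlt : N < C) :
    ∃ u ∈ C, u ∉ N ∧ u * u ∈ N ∧ ∀ g ∈ G, g * u * g⁻¹ * u⁻¹ ∈ N := by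
  haveI : Fact (Nat.Prime 2) := ⟨Nat.prime_two⟩
  have hNG : N ≤ G := hlt.le.trans hCG
  set N' := N.subgroupOf G with hN'
  haveI : N'.Normal := (Subgroup.normal_subgroupOf_iff_le_normalizer hNG).2 hN
  set π := QuotientGroup.mk' N' with hπ
  haveI : (C.subgroupOf G).Normal := (Subgroup.normal_subgroupOf_iff_le_normalizer hCG).2 hC
  set Cq := (C.subgroupOf G).map π with hCq
  haveI : Cq.Normal := Subgroup.Normal.map inferInstance π (QuotientGroup.mk'_surjective N')
  have hne : Cq ≠ ⊥ := by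
    intro h
    refine hlt.not_ge fun c hc => ?_
    have hmem : π ⟨c, hCG hc⟩ ∈ Cq := ⟨_, hc, rfl⟩
    rw [h, Subgroup.mem_bot] at hmem
    exact (QuotientGroup.eq_one_iff (N := N') (⟨c, hCG hc⟩ : G)).1 hmem
  haveI : Group.IsNilpotent (G ⧸ N') := ((hS.to_subgroup G).to_quotient N').isNilpotent
  obtain ⟨v, hv, hv1⟩ :=
    (Cq ⊓ Subgroup.center (G ⧸ N')).bot_or_exists_ne_one.resolve_left fun h => by
      exact Cores.inf_center_ne_bot hne h
  obtain ⟨hvC, hvZ⟩ := hv
  -- an element of order two among the powers of `v`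
  obtain ⟨k, hk⟩ := IsPGroup.iff_orderOf.1 ((hS.to_subgroup G).to_quotient N') v
  obtain ⟨j, rfl⟩ : ∃ j, k = j + 1 := ⟨k - 1, by
    cases k with
    | zero => exact absurd (orderOf_eq_one_iff.1 (by simpa using hk)) hv1
    | succ k => rfl⟩
  set w := v ^ 2 ^ j with hw
  have hw1 : w ≠ 1 := fun h => by
    have := Nat.le_of_dvd (by positivity) (orderOf_dvd_of_pow_eq_one h)
    rw [hk] at this
    exact absurd this (not_le.2 (Nat.pow_lt_pow_right one_lt_two (Nat.lt_succ_self j)))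
  have hww : w * w = 1 := by rw [hw, ← pow_add, ← mul_two, ← pow_succ, ← hk, pow_orderOf_eq_one]
  obtain ⟨u, hu, hue⟩ := (pow_mem hvC _ : w ∈ Cq)
  refine ⟨u, hu, fun h => hw1 (hue.symm.trans ((QuotientGroup.eq_one_iff u).2 h)), ?_, fun g hg => ?_⟩
  · have h : π (u * u) = 1 := by rw [map_mul, hue, hww]
    exact (QuotientGroup.eq_one_iff (N := N') (u * u)).1 h
  · have h : π (⟨g, hg⟩ * u * ⟨g, hg⟩⁻¹ * u⁻¹) = 1 := by
      rw [map_mul, map_mul, map_mul, map_inv, map_inv, hue,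
        Subgroup.mem_center_iff.1 (pow_mem hvZ _ : w ∈ Subgroup.center _) (π ⟨g, hg⟩)]
      group
    exact (QuotientGroup.eq_one_iff (N := N') ((⟨g, hg⟩ : G) * u * (⟨g, hg⟩ : G)⁻¹ * u⁻¹)).1 h

namespace Setup

variable {Q : Subgroup S} {z : S} (h : Setup Q z)
include h

theorem inv_eq : z⁻¹ = z := inv_eq_of_mul_eq_one_right h.zz

theorem comm_z (g : S) : g * z = z * g := Subgroup.mem_center_iff.1 h.zcen g

theorem conj_z (g : S) : g * z * g⁻¹ = z := by rw [h.comm_z, mul_inv_cancel_right]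

theorem inZ_mem {x : S} (hx : InZ z x) : x ∈ Subgroup.zpowers z := by
  rcases hx with rfl | rfl
  · exact one_mem _
  · exact Subgroup.mem_zpowers _

theorem inZ_center {x : S} (hx : InZ z x) : x ∈ Subgroup.center S :=
  Subgroup.zpowers_le.2 h.zcen (h.inZ_mem hx)

theorem inZ_Q {x : S} (hx : InZ z x) : x ∈ Q := Subgroup.zpowers_le.2 h.zmem (h.inZ_mem hx)

theorem mem_inZ {x : S} (hx : x ∈ Subgroup.zpowers z) : InZ z x := by
  obtain ⟨i, rfl⟩ := Subgroup.mem_zpowers_iff.1 hx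
  rcases Int.even_or_odd' i with ⟨j, rfl | rfl⟩
  · left; rw [zpow_mul, zpow_two, h.zz, one_zpow]
  · right; rw [zpow_add, zpow_mul, zpow_two, h.zz, one_zpow, one_mul, zpow_one]

theorem inZ_mul {x y : S} (hx : InZ z x) (hy : InZ z y) : InZ z (x * y) :=
  h.mem_inZ (mul_mem (h.inZ_mem hx) (h.inZ_mem hy))

theorem card_zpowers : Nat.card (Subgroup.zpowers z) = 2 := by
  rw [Nat.card_zpowers]
  exact orderOf_eq_prime (by rw [pow_two, h.zz]) h.zne

theorem inZ_sq {x : S} (hx : InZ z x) : x * x = 1 := by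
  rcases hx with rfl | rfl
  · exact one_mul 1
  · exact h.zz

omit [Finite S] h in
/-- The commutator with a product. -/
theorem comm_mul (s t x : S) (hc : t * x * t⁻¹ * x⁻¹ ∈ Subgroup.center S) :
    s * t * x * (s * t)⁻¹ * x⁻¹ = t * x * t⁻¹ * x⁻¹ * (s * x * s⁻¹ * x⁻¹) := by
  calc s * t * x * (s * t)⁻¹ * x⁻¹ = s * (t * x * t⁻¹ * x⁻¹) * (x * s⁻¹ * x⁻¹) := by group
    _ = (t * x * t⁻¹ * x⁻¹) * s * (x * s⁻¹ * x⁻¹) := by rw [Subgroup.mem_center_iff.1 hc s]
    _ = _ := by group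

/-- An element inducing a central automorphism on `Q` lies in `Q`. -/
theorem mem_of_comm_inZ {s : S} (hs : ∀ x ∈ Q, InZ z (s * x * s⁻¹ * x⁻¹)) : s ∈ Q := by
  let T : Subgroup S :=
    { carrier := {t | ∀ x ∈ Q, InZ z (t * x * t⁻¹ * x⁻¹)}
      one_mem' := fun x _ => Or.inl (by group)
      mul_mem' := fun {a b} ha hb x hx => by
        rw [comm_mul a b x (h.inZ_center (hb x hx))]
        exact h.inZ_mul (hb x hx) (ha x hx)
      inv_mem' := fun {a} ha x hx => by
        have he : a⁻¹ * x * a⁻¹⁻¹ * x⁻¹ = (a * x * a⁻¹ * x⁻¹)⁻¹ := by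
          refine eq_inv_of_mul_eq_one_left ?_
          rw [← comm_mul a a⁻¹ x]
          · group
          · have hc := h.inZ_center (ha x hx)
            rw [show a⁻¹ * x * a⁻¹⁻¹ * x⁻¹ = a⁻¹ * (a * x * a⁻¹ * x⁻¹)⁻¹ * a by group,
              Subgroup.mem_center_iff.1 (inv_mem hc) a⁻¹, inv_mul_cancel_right]
            exact inv_mem hc
        exact h.mem_inZ (he ▸ inv_mem (h.inZ_mem (ha x hx))) }
  have hQT : Q ≤ T := fun q hq x hx => h.comm q hq x hx
  obtain ⟨g, hgQ, hg⟩ := h.gen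
  let φ : T →* (Fin 4 → Subgroup.zpowers z) :=
    MonoidHom.mk' (fun t i => ⟨_, h.inZ_mem (t.2 _ (hgQ i))⟩) fun a b => by
      funext i
      apply Subtype.ext
      simp only [Pi.mul_apply, Subgroup.coe_mul]
      exact (comm_mul (a : S) b (g i) (h.inZ_center (b.2 _ (hgQ i)))).trans
        (Subgroup.mem_center_iff.1 (h.inZ_center (b.2 _ (hgQ i))) _).symm
  have hker : Nat.card φ.ker ≤ 2 := by
    rw [← h.card_zpowers]
    let ι : φ.ker → Subgroup.zpowers z := fun t => ⟨((t : T) : S), by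
      refine h.inZ_mem (h.cen _ fun y hy => ?_)
      have hle : Q ≤ Subgroup.centralizer ({((t : T) : S)} : Set S) := hg _ fun i => by
        have h1 := congrArg Subtype.val (congrFun (MonoidHom.mem_ker.1 t.2) i)
        simp only [φ, MonoidHom.mk'_apply, Pi.one_apply, OneMemClass.coe_one] at h1
        rw [mul_inv_eq_one, mul_inv_eq_iff_eq_mul] at h1
        exact Subgroup.mem_centralizer_singleton_iff.2 h1.symm
      exact (Subgroup.mem_centralizer_singleton_iff.1 (hle hy)).symm⟩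
    exact Nat.card_le_card_of_injective ι fun a b hab =>
      Subtype.ext (Subtype.ext (congrArg (fun x : Subgroup.zpowers z => (x : S)) hab :))
  have hrange : Nat.card φ.range ≤ 16 := by
    refine (Subgroup.card_le_card_group _).trans (le_of_eq ?_)
    rw [Nat.card_pi, Finset.prod_const, h.card_zpowers]
    rfl
  have hT : Nat.card T ≤ 32 := by
    rw [Subgroup.card_eq_card_quotient_mul_card_subgroup φ.ker,
      Nat.card_congr (QuotientGroup.quotientKerEquivRange φ).toEquiv]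
    exact Nat.mul_le_mul hrange hker
  have := Subgroup.eq_of_le_of_card_ge hQT (hT.trans h.card.ge)
  rw [this]
  exact hs

end Setup

end Cfsg.Agent.PGroups.Q8Q8
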