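import Mathlib
import Cfsg.Agent.Lib.Coprime.Basic
import Cfsg.Agent.Lib.PGroups.Q8Q8.Basic

/-!
# The hypotheses on two commuting quaternion subgroups

Two elementwise commuting quaternion groups of order 8 generating a group `Q` of order 32 with
`C(Q) ≤ Q` give the data used in the bound on elementary abelian sections, and a normal subgroup
of exponent 2 contains a normal subgroup of every smaller order.
-/

set_option autoImplicit false
set_option linter.style.haveILetI false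

namespace Cfsg.Agent.PGroups.Q8Q8

universe u

variable {S : Type u} [Group S]

theorem q8_sq : ∀ x : QuaternionGroup 2, x * x = 1 ∨ x * x = QuaternionGroup.a 2 := by decide

theorem q8_comm : ∀ x y : QuaternionGroup 2,
    x * y * x⁻¹ * y⁻¹ = 1 ∨ x * y * x⁻¹ * y⁻¹ = QuaternionGroup.a 2 := by decide

theorem q8_central : ∀ x : QuaternionGroup 2,
    (∀ y, x * y = y * x) → x = 1 ∨ x = QuaternionGroup.a 2 := by decide

theorem q8_invol : (QuaternionGroup.a 2 : QuaternionGroup 2) ≠ 1 ∧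
    (QuaternionGroup.a 2 : QuaternionGroup 2) * QuaternionGroup.a 2 = 1 := by decide

theorem q8_gen : ∀ x : QuaternionGroup 2, ∃ i j : Fin 4,
    x = QuaternionGroup.a 1 ^ (i : ℕ) * QuaternionGroup.xa 0 ^ (j : ℕ) := by decide

/-- What is used about one quaternion subgroup. -/
theorem q8_subgroup (P : Subgroup S) (ε : P ≃* QuaternionGroup 2) :
    ∃ z ∈ P, z ≠ 1 ∧ z * z = 1 ∧ (∀ x ∈ P, InZ z (x * x)) ∧
      (∀ x ∈ P, ∀ y ∈ P, InZ z (x * y * x⁻¹ * y⁻¹)) ∧
      (∀ x ∈ P, (∀ y ∈ P, x * y = y * x) → InZ z x) ∧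
      ∃ g h : S, g ∈ P ∧ h ∈ P ∧ ∀ K : Subgroup S, g ∈ K → h ∈ K → P ≤ K := by
  set ψ : QuaternionGroup 2 →* S := P.subtype.comp ε.symm.toMonoidHom with hψ
  have hψi : Function.Injective ψ := P.subtype_injective.comp ε.symm.injective
  have hψr : ∀ x ∈ P, ∃ q, ψ q = x := fun x hx => ⟨ε ⟨x, hx⟩, by simp [hψ]⟩
  have hψm : ∀ q, ψ q ∈ P := fun q => (ε.symm q).2
  have hin : ∀ q, (q = 1 ∨ q = QuaternionGroup.a 2) → InZ (ψ (QuaternionGroup.a 2)) (ψ q) := by
    rintro q (rfl | rfl)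
    · exact Or.inl (map_one _)
    · exact Or.inr rfl
  refine ⟨ψ (QuaternionGroup.a 2), hψm _, ?_, ?_, ?_, ?_, ?_, ψ (QuaternionGroup.a 1),
    ψ (QuaternionGroup.xa 0), hψm _, hψm _, ?_⟩
  · exact fun h => q8_invol.1 (hψi (h.trans (map_one ψ).symm))
  · rw [← map_mul, q8_invol.2, map_one]
  · intro x hx
    obtain ⟨q, rfl⟩ := hψr x hx
    rw [← map_mul]
    exact hin _ (q8_sq q)
  · intro x hx y hy
    obtain ⟨q, rfl⟩ := hψr x hx
    obtain ⟨r, rfl⟩ := hψr y hy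
    rw [← map_inv, ← map_inv, ← map_mul, ← map_mul, ← map_mul]
    exact hin _ (q8_comm q r)
  · intro x hx hc
    obtain ⟨q, rfl⟩ := hψr x hx
    exact hin _ (q8_central q fun r => hψi (by rw [map_mul, map_mul]; exact hc _ (hψm r)))
  · intro K hg hh x hx
    obtain ⟨q, rfl⟩ := hψr x hx
    obtain ⟨i, j, rfl⟩ := q8_gen q
    rw [map_mul, map_pow, map_pow]
    exact mul_mem (pow_mem hg _) (pow_mem hh _)

variable [Finite S]

/-- The hypotheses give the data of `Setup`. -/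
theorem exists_setup (hS : IsPGroup 2 S) {Q Q₁ Q₂ : Subgroup S} (e₁ : Q₁ ≃* QuaternionGroup 2)
    (e₂ : Q₂ ≃* QuaternionGroup 2) (hcomm : ∀ a ∈ Q₁, ∀ b ∈ Q₂, a * b = b * a)
    (hQ : Q₁ ⊔ Q₂ = Q) (hQ32 : Nat.card Q = 32) (hC : Subgroup.centralizer (Q : Set S) ≤ Q) :
    ∃ z, Setup Q z := by
  obtain ⟨z, hz, hz1, hzz, hsq₁, hcom₁, hcen₁, g₁, k₁, hg₁, hk₁, hgen₁⟩ := q8_subgroup Q₁ e₁
  obtain ⟨z', hz', -, -, hsq₂, hcom₂, hcen₂, g₂, k₂, hg₂, hk₂, hgen₂⟩ := q8_subgroup Q₂ e₂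
  -- the two involutions coincide
  have hzz' : z = z' := by
    have hN : Q₂ ≤ Subgroup.normalizer (Q₁ : Set S) :=
      Subgroup.le_normalizer_iff.2 fun b hb a ha => by
        rw [← hcomm a ha b hb, mul_inv_cancel_right]; exact ha
    obtain ⟨w, ⟨hw1, hw2⟩, hw⟩ := (Q₁ ⊓ Q₂).bot_or_exists_ne_one.resolve_left fun h => by
      have h8 : Nat.card (QuaternionGroup 2) = 8 := by
        rw [Nat.card_eq_fintype_card, QuaternionGroup.card]
      have := Coprime.card_sup_of_disjoint hN (disjoint_iff.2 h)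
      rw [hQ, hQ32, Nat.card_congr e₁.toEquiv, Nat.card_congr e₂.toEquiv, h8] at this
      norm_num at this
    rcases hcen₁ w hw1 (fun y hy => (hcomm y hy w hw2).symm) with h | h
    · exact absurd h hw
    rcases hcen₂ w hw2 (fun y hy => hcomm w hw1 y hy) with h' | h'
    · exact absurd h' hw
    exact h.symm.trans h'
  subst hzz'
  let T : Subgroup S :=
    { carrier := {x | ∃ a ∈ Q₁, ∃ b ∈ Q₂, x = a * b}
      one_mem' := ⟨1, one_mem _, 1, one_mem _, (one_mul 1).symm⟩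
      mul_mem' := by
        rintro _ _ ⟨a, ha, b, hb, rfl⟩ ⟨a', ha', b', hb', rfl⟩
        exact ⟨a * a', mul_mem ha ha', b * b', mul_mem hb hb',
          Commute.mul_mul_mul_comm (show Commute a' b from hcomm a' ha' b hb).symm a b'⟩
      inv_mem' := by
        rintro _ ⟨a, ha, b, hb, rfl⟩
        exact ⟨a⁻¹, inv_mem ha, b⁻¹, inv_mem hb, by
          rw [mul_inv_rev, hcomm a⁻¹ (inv_mem ha) b⁻¹ (inv_mem hb)]⟩ }
  have hQT : Q ≤ T := hQ ▸ sup_le (fun a ha => ⟨a, ha, 1, one_mem _, (mul_one a).symm⟩)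
    (fun b hb => ⟨1, one_mem _, b, hb, (one_mul b).symm⟩)
  have hle₁ : Q₁ ≤ Q := hQ ▸ le_sup_left
  have hle₂ : Q₂ ≤ Q := hQ ▸ le_sup_right
  have hmul : ∀ x y : S, InZ z x → InZ z y → InZ z (x * y) := by
    rintro x y (rfl | rfl) (rfl | rfl)
    · exact Or.inl (one_mul 1)
    · exact Or.inr (one_mul _)
    · exact Or.inr (mul_one _)
    · exact Or.inl hzz
  have hcen : ∀ x : S, (∀ y ∈ Q, x * y = y * x) → InZ z x := by
    intro x hx
    obtain ⟨a, ha, b, hb, rfl⟩ :=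
      hQT (hC (Subgroup.mem_centralizer_iff.2 fun y hy => (hx y hy).symm))
    refine hmul a b (hcen₁ a ha fun y hy => ?_) (hcen₂ b hb fun y hy => ?_)
    · have := hx y (hle₁ hy)
      rw [mul_assoc, ← hcomm y hy b hb, ← mul_assoc, ← mul_assoc] at this
      exact mul_right_cancel this
    · have := hx y (hle₂ hy)
      rw [mul_assoc, ← mul_assoc y, ← hcomm a ha y hy, mul_assoc a y] at this
      exact mul_left_cancel this
  refine ⟨z, hle₁ hz, hz1, hzz, ?_, hcen, ?_, ?_, hQ32, ![g₁, k₁, g₂, k₂], ?_, ?_⟩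
  · haveI : Fact (Nat.Prime 2) := ⟨Nat.prime_two⟩
    haveI : Nontrivial S := ⟨⟨z, 1, hz1⟩⟩
    haveI := hS.center_nontrivial
    obtain ⟨w, hw⟩ := exists_ne (1 : Subgroup.center S)
    rcases hcen w (fun y _ => (Subgroup.mem_center_iff.1 w.2 y).symm) with h | h
    · exact absurd (Subtype.ext h) hw
    · exact h ▸ w.2
  · intro x hx y hy
    obtain ⟨a, ha, b, hb, rfl⟩ := hQT hx
    obtain ⟨c, hc, d, hd, rfl⟩ := hQT hy
    have h1 : b * c = c * b := (hcomm c hc b hb).symm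
    have h2 : (b * d * b⁻¹) * a⁻¹ = a⁻¹ * (b * d * b⁻¹) :=
      (hcomm _ (inv_mem ha) _ (mul_mem (mul_mem hb hd) (inv_mem hb))).symm
    have h3 : (b * d * b⁻¹ * d⁻¹) * c⁻¹ = c⁻¹ * (b * d * b⁻¹ * d⁻¹) :=
      (hcomm _ (inv_mem hc) _
        (mul_mem (mul_mem (mul_mem hb hd) (inv_mem hb)) (inv_mem hd))).symm
    rw [show a * b * (c * d) * (a * b)⁻¹ * (c * d)⁻¹ =
        (a * c * a⁻¹ * c⁻¹) * (b * d * b⁻¹ * d⁻¹) from by
      calc a * b * (c * d) * (a * b)⁻¹ * (c * d)⁻¹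
          = a * (b * c) * (d * b⁻¹) * a⁻¹ * d⁻¹ * c⁻¹ := by group
        _ = a * c * ((b * d * b⁻¹) * a⁻¹) * d⁻¹ * c⁻¹ := by rw [h1]; group
        _ = a * c * a⁻¹ * ((b * d * b⁻¹ * d⁻¹) * c⁻¹) := by rw [h2]; group
        _ = _ := by rw [h3]; group]
    exact hmul _ _ (hcom₁ a ha c hc) (hcom₂ b hb d hd)
  · intro x hx
    obtain ⟨a, ha, b, hb, rfl⟩ := hQT hx
    rw [Commute.mul_mul_mul_comm (show Commute a b from hcomm a ha b hb).symm a b]
    exact hmul _ _ (hsq₁ a ha) (hsq₂ b hb)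
  · intro i
    fin_cases i
    exacts [hle₁ hg₁, hle₁ hk₁, hle₂ hg₂, hle₂ hk₂]
  · intro K hK
    exact hQ ▸ sup_le (hgen₁ K (hK 0) (hK 1)) (hgen₂ K (hK 2) (hK 3))

/-- A normal subgroup of exponent two contains normal subgroups of all smaller 2-power orders. -/
theorem exists_normal_card (hS : IsPGroup 2 S) (A : Subgroup S) [A.Normal]
    (hA2 : ∀ a ∈ A, a * a = 1) :
    ∀ k : ℕ, 2 ^ k ≤ Nat.card A → ∃ N : Subgroup S, N.Normal ∧ N ≤ A ∧ Nat.card N = 2 ^ k := by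
  intro k
  induction k with
  | zero => exact fun _ => ⟨⊥, inferInstance, bot_le, by simp⟩
  | succ k ih =>
    intro hk
    obtain ⟨N, hN, hNA, hNc⟩ := ih ((Nat.pow_le_pow_right two_pos k.le_succ).trans hk)
    have hlt : N < A := lt_of_le_of_ne hNA fun he => by
      rw [← he, hNc, pow_succ] at hk
      have := Nat.two_pow_pos k
      omega
    obtain ⟨u, huA, huN, -, horb⟩ := exists_step hS (G := ⊤) (N := N) (C := A)
      Subgroup.le_normalizer_of_normal Subgroup.le_normalizer_of_normal le_top hlt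
    have huu := hA2 u huA
    refine ⟨N ⊔ Subgroup.zpowers u, ⟨fun x hx g => ?_⟩,
      sup_le hNA (Subgroup.zpowers_le.2 huA), ?_⟩
    · have hle : (N ⊔ Subgroup.zpowers u).map (MulAut.conj g).toMonoidHom ≤
          N ⊔ Subgroup.zpowers u := by
        rw [Subgroup.map_sup, MonoidHom.map_zpowers]
        refine sup_le ?_ (Subgroup.zpowers_le.2 ?_)
        · rintro _ ⟨y, hy, rfl⟩
          exact Subgroup.mem_sup_left (hN.conj_mem y hy g)
        · show g * u * g⁻¹ ∈ _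
          rw [show g * u * g⁻¹ = (g * u * g⁻¹ * u⁻¹) * u by group]
          exact mul_mem (Subgroup.mem_sup_left (horb g trivial))
            (Subgroup.mem_sup_right (Subgroup.mem_zpowers u))
      exact hle ⟨x, hx, rfl⟩
    · rw [Coprime.card_sup_of_disjoint Subgroup.le_normalizer_of_normal, hNc, Nat.card_zpowers,
        orderOf_eq_prime (p := 2) (by rw [pow_two, huu]) fun h => huN (by rw [h]; exact one_mem N), pow_succ]
      rw [Subgroup.disjoint_def]
      intro t ht htu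
      obtain ⟨i, rfl⟩ := Subgroup.mem_zpowers_iff.1 htu
      rcases Int.even_or_odd' i with ⟨j, rfl | rfl⟩
      · rw [zpow_mul, zpow_two, huu, one_zpow]
      · rw [zpow_add, zpow_mul, zpow_two, huu, one_zpow, one_mul, zpow_one] at ht
        exact absurd ht huN

end Cfsg.Agent.PGroups.Q8Q8
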