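import Mathlib
import Cfsg.Agent.Lib.Cores.Basic
import Cfsg.Agent.Lib.PGroups.Q8Q8.Basic

/-!
# A normal elementary abelian subgroup of order eight next to `Q₈ ∗ Q₈`

Let `A ⊴ S` be elementary abelian of order 8.  Then `A ≤ Q`, `Q` induces on `A` the four-group of
transvections with centre `z`, `C = C(A)` is abelian of order at most 16 and no element of
`Q ∖ A` centralises an element of `C ∖ A`.  Every elementary abelian quotient of a subgroup of
`S` then has order at most 16.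
-/

set_option autoImplicit false
set_option linter.style.haveILetI false
set_option linter.unusedSectionVars false

namespace Cfsg.Agent.PGroups.Q8Q8

universe u

variable {S : Type u} [Group S] [Finite S]

theorem card_le_four {A M : Subgroup S} (hA : Nat.card A = 8) (h : M < A) : Nat.card M ≤ 4 := by
  have h1 := Subgroup.card_dvd_of_le h.le
  have h2 : Nat.card M ≠ 8 := fun he =>
    h.ne (Subgroup.eq_of_le_of_card_ge h.le (by rw [hA, he]))
  rw [hA] at h1
  have h3 := Nat.le_of_dvd (by norm_num) h1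
  interval_cases (Nat.card M) <;> simp_all

namespace Setup

variable {Q A : Subgroup S} {z : S} (h : Setup Q z) (hS : IsPGroup 2 S)
include h hS

theorem z_mem_normal [A.Normal] (hA : A ≠ ⊥) : z ∈ A := by
  haveI : Group.IsNilpotent S := hS.isNilpotent
  obtain ⟨x, ⟨hxA, hxZ⟩, hx1⟩ :=
    (A ⊓ Subgroup.center S).bot_or_exists_ne_one.resolve_left (Cores.inf_center_ne_bot hA)
  rcases h.cen x fun y _ => (Subgroup.mem_center_iff.1 hxZ y).symm with rfl | rfl
  · exact absurd rfl hx1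
  · exact hxA

/-- A normal elementary abelian subgroup of order 8 lies in `Q`. -/
theorem normal_eight_le [A.Normal] (hab : IsMulCommutative A) (hA2 : ∀ a ∈ A, a * a = 1)
    (hA8 : Nat.card A = 8) : A ≤ Q := by
  haveI : Group.IsNilpotent S := hS.isNilpotent
  by_contra hle
  have hcomm : ∀ a ∈ A, ∀ b ∈ A, a * b = b * a := fun a ha b hb =>
    congrArg Subtype.val (hab.is_comm.comm (⟨a, ha⟩ : A) ⟨b, hb⟩)
  -- an element of `A` outside `Q` normalising it
  set M := A ⊔ Q with hM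
  haveI : Group.IsNilpotent M := (hS.to_subgroup M).isNilpotent
  have hlt : Q.subgroupOf M < ⊤ := lt_top_iff_ne_top.2 fun he =>
    hle (le_sup_left.trans (Subgroup.subgroupOf_eq_top.1 he))
  obtain ⟨n, hn, hnQ⟩ := SetLike.exists_of_lt (Group.normalizerCondition_of_isNilpotent _ hlt)
  obtain ⟨a, ha, q, hq, hnaq⟩ := Subgroup.mem_sup_of_normal_left.1 n.2
  have haQ : a ∉ Q := fun h' => hnQ (show (n : S) ∈ Q from hnaq ▸ mul_mem h' hq)
  have hconj : ∀ x ∈ Q, a * x * a⁻¹ ∈ Q := by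
    intro x hx
    have hx' : q⁻¹ * x * q ∈ Q := mul_mem (mul_mem (inv_mem hq) hx) hq
    have hmem : (n : S) * (q⁻¹ * x * q) * (n : S)⁻¹ ∈ Q :=
      (Subgroup.mem_normalizer_iff.1 hn ⟨q⁻¹ * x * q, Subgroup.mem_sup_right hx'⟩).1 hx'
    rw [← hnaq] at hmem
    rwa [show a * x * a⁻¹ = a * q * (q⁻¹ * x * q) * (a * q)⁻¹ by group]
  set A1 := A ⊓ Q with hA1
  have hA1lt : A1 < A := lt_of_le_of_ne inf_le_left fun he => hle (he ▸ inf_le_right)
  have hzA1 : z ∈ A1 := ⟨h.z_mem_normal hS (fun he => by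
    rw [he, Subgroup.card_bot] at hA8; norm_num at hA8), h.zmem⟩
  have hκ : ∀ x ∈ Q, a * x * a⁻¹ * x⁻¹ ∈ A1 := fun x hx => by
    refine ⟨?_, Q.mul_mem (hconj x hx) (Q.inv_mem hx)⟩
    rw [show a * x * a⁻¹ * x⁻¹ = a * (x * a⁻¹ * x⁻¹) by group]
    exact mul_mem ha ((inferInstance : A.Normal).conj_mem _ (inv_mem ha) x)
  by_cases hall : ∀ x ∈ Q, InZ z (a * x * a⁻¹ * x⁻¹)
  · exact haQ (h.mem_of_comm_inZ hall)
  push Not at hall
  obtain ⟨x, hx, hwx⟩ := hall
  set w := a * x * a⁻¹ * x⁻¹ with hw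
  -- each commutator commutes with its argument
  have hsq : ∀ y ∈ Q, (a * y * a⁻¹ * y⁻¹) * y = y * (a * y * a⁻¹ * y⁻¹) := by
    intro y hy
    set k := a * y * a⁻¹ * y⁻¹ with hk
    have hkk : k * k = 1 := hA2 k (hκ y hy).1
    have h1 : a * (y * y) * a⁻¹ = y * y := by
      rw [Subgroup.mem_center_iff.1 (h.inZ_center (h.sq y hy)) a, mul_inv_cancel_right]
    have h2 : k * y * (k * y) = y * y := by
      rw [← h1, hk]; group
    have h3 : k * y * k = y := mul_right_cancel (b := y) (by rw [← h2]; group)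
    calc k * y = k * y * (k * k) := by rw [hkk, mul_one]
      _ = (k * y * k) * k := by group
      _ = y * k := by rw [h3]
  have hwA1 : w ∈ A1 := hκ x hx
  have hA1mem : ∀ v ∈ A1, InZ z v ∨ InZ z (w * v) := by
    classical
    by_contra hcon
    push Not at hcon
    obtain ⟨v, hv, hv1, hv2⟩ := hcon
    haveI := Fintype.ofFinite A1
    have hsub : ({1, z, w, w * z, v} : Finset S) ⊆ Finset.univ.image (Subtype.val : A1 → S) := by
      intro t ht
      simp only [Finset.mem_insert, Finset.mem_singleton] at ht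
      refine Finset.mem_image.2 ⟨⟨t, ?_⟩, Finset.mem_univ _, rfl⟩
      rcases ht with rfl | rfl | rfl | rfl | rfl
      exacts [one_mem _, hzA1, hwA1, mul_mem hwA1 hzA1, hv]
    have hww : w * w = 1 := hA2 w hwA1.1
    have hv1' : v ≠ 1 ∧ v ≠ z := ⟨fun e => hv1 (Or.inl e), fun e => hv1 (Or.inr e)⟩
    have hv2' : v ≠ w ∧ v ≠ w * z :=
      ⟨fun e => hv2 (Or.inl (by rw [e, hww])), fun e => hv2 (Or.inr (by rw [e, ← mul_assoc, hww, one_mul]))⟩
    have hwne : w ≠ 1 ∧ w ≠ z := ⟨fun e => hwx (Or.inl e), fun e => hwx (Or.inr e)⟩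
    have h5 : ({1, z, w, w * z, v} : Finset S).card = 5 := by
      rw [Finset.card_insert_of_notMem, Finset.card_insert_of_notMem, Finset.card_insert_of_notMem,
        Finset.card_pair hv2'.2.symm]
      · simp only [Finset.mem_insert, Finset.mem_singleton, not_or]
        exact ⟨fun e => h.zne (mul_eq_left.1 e.symm), hv2'.1.symm⟩
      · simp only [Finset.mem_insert, Finset.mem_singleton, not_or]
        exact ⟨hwne.2.symm, fun e => hwne.1 (mul_eq_right.1 e.symm), hv1'.2.symm⟩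
      · simp only [Finset.mem_insert, Finset.mem_singleton, not_or]
        refine ⟨h.zne.symm, hwne.1.symm, fun e => hwne.2 ?_, hv1'.1.symm⟩
        rw [← h.inv_eq]; exact eq_inv_of_mul_eq_one_left e.symm
    have := (Finset.card_le_card hsub).trans Finset.card_image_le
    rw [Finset.card_univ, ← Nat.card_eq_fintype_card] at this
    have := card_le_four hA8 hA1lt
    omega
  refine hwx (h.cen w fun y hy => ?_)
  rcases hA1mem _ (hκ y hy) with hy1 | hy1
  · -- use `x y`
    have hxy := hsq (x * y) (mul_mem hx hy)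
    have he : a * (x * y) * a⁻¹ * (x * y)⁻¹ = w * (a * y * a⁻¹ * y⁻¹) := by
      have hc := Subgroup.mem_center_iff.1 (h.inZ_center hy1) x
      calc a * (x * y) * a⁻¹ * (x * y)⁻¹ = a * x * a⁻¹ * ((a * y * a⁻¹ * y⁻¹) * x⁻¹) := by group
        _ = a * x * a⁻¹ * (x⁻¹ * (a * y * a⁻¹ * y⁻¹)) := by
          rw [← Subgroup.mem_center_iff.1 (h.inZ_center hy1) x⁻¹]
        _ = _ := by rw [hw]; group
    have hc : ∀ t, t * (a * y * a⁻¹ * y⁻¹) = (a * y * a⁻¹ * y⁻¹) * t :=
      Subgroup.mem_center_iff.1 (h.inZ_center hy1)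
    rw [he] at hxy
    have h1 : w * (x * y) = x * y * w := mul_right_cancel (b := a * y * a⁻¹ * y⁻¹) (by
      rw [mul_assoc w, hc (x * y), ← mul_assoc, hxy]; simp only [mul_assoc])
    rw [← mul_assoc, show w * x = x * w from hsq x hx, mul_assoc x w, mul_assoc x y] at h1
    exact mul_left_cancel h1
  · have h2 : a * y * a⁻¹ * y⁻¹ = w * (w * (a * y * a⁻¹ * y⁻¹)) := by
      rw [← mul_assoc, hA2 w hwA1.1, one_mul]
    have h3 := hsq y hy
    rw [h2] at h3
    have hc := Subgroup.mem_center_iff.1 (h.inZ_center hy1)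
    exact mul_right_cancel (b := w * (a * y * a⁻¹ * y⁻¹))
      (by rw [mul_assoc w, hc y, ← mul_assoc, h3, ← mul_assoc])

end Setup

/-- The data attached to a normal elementary abelian subgroup of order 8. -/
structure Eight (Q A : Subgroup S) (z e f p q : S) : Prop where
  setup : Setup Q z
  normal : A.Normal
  comm : ∀ a ∈ A, ∀ b ∈ A, a * b = b * a
  sq : ∀ a ∈ A, a * a = 1
  card : Nat.card A = 8
  le : A ≤ Q
  emem : e ∈ A
  enot : ¬ InZ z e
  eorb : ∀ g : S, InZ z (g * e * g⁻¹ * e⁻¹)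
  fmem : f ∈ A
  fnot : ¬ InZ z f ∧ ¬ InZ z (e * f)
  decomp : ∀ a ∈ A, InZ z a ∨ InZ z (e * a) ∨ InZ z (f * a) ∨ InZ z (e * (f * a))
  pmem : p ∈ Q
  pe : p * e * p⁻¹ * e⁻¹ = z
  pf : p * f * p⁻¹ * f⁻¹ = 1
  qmem : q ∈ Q
  qe : q * e * q⁻¹ * e⁻¹ = 1
  qf : q * f * q⁻¹ * f⁻¹ = z

theorem exists_eight {Q A : Subgroup S} {z : S} (h : Setup Q z) (hS : IsPGroup 2 S) [A.Normal]
    (hab : IsMulCommutative A) (hA2 : ∀ a ∈ A, a * a = 1) (hA8 : Nat.card A = 8) :
    ∃ e f p q : S, Eight Q A z e f p q := by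
  classical
  have hcomm : ∀ a ∈ A, ∀ b ∈ A, a * b = b * a := fun a ha b hb =>
    congrArg Subtype.val (hab.is_comm.comm (⟨a, ha⟩ : A) ⟨b, hb⟩)
  have hle := h.normal_eight_le hS hab hA2 hA8
  have hzA : z ∈ A := h.z_mem_normal hS fun he => by
    rw [he, Subgroup.card_bot] at hA8; norm_num at hA8
  haveI hZn : (Subgroup.zpowers z).Normal := ⟨fun a ha g => by
    rw [Subgroup.mem_center_iff.1 (h.inZ_center (h.mem_inZ ha)) g, mul_inv_cancel_right]; exact ha⟩
  obtain ⟨e, he, henot, -, heorb⟩ := exists_step hS (G := ⊤) (N := Subgroup.zpowers z) (C := A)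
    Subgroup.le_normalizer_of_normal Subgroup.le_normalizer_of_normal le_top
    (lt_of_le_of_ne (Subgroup.zpowers_le.2 hzA) fun heq => by
      have := congrArg (fun K : Subgroup S => Nat.card K) heq
      simp only [h.card_zpowers, hA8] at this
      norm_num at this)
  have henot' : ¬ InZ z e := fun hh => henot (h.inZ_mem hh)
  have hee := hA2 e he
  -- a third generator
  obtain ⟨f, hf, hf1, hf2⟩ : ∃ f ∈ A, ¬ InZ z f ∧ ¬ InZ z (e * f) := by
    by_contra hcon
    push Not at hcon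
    haveI := Fintype.ofFinite A
    have hsub : Finset.univ.image (Subtype.val : A → S) ⊆ ({1, z, e, e * z} : Finset S) := by
      intro t ht
      obtain ⟨⟨t, htA⟩, -, rfl⟩ := Finset.mem_image.1 ht
      simp only [Finset.mem_insert, Finset.mem_singleton]
      by_cases h1 : InZ z t
      · rcases h1 with h1 | h1 <;> simp [h1]
      · rcases hcon t htA h1 with h2 | h2
        · exact Or.inr (Or.inr (Or.inl ((eq_inv_of_mul_eq_one_right h2).trans
            (inv_eq_of_mul_eq_one_right hee))))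
        · refine Or.inr (Or.inr (Or.inr ?_))
          rw [← h2, ← mul_assoc, hee, one_mul]
    have := (Finset.card_le_card hsub).trans Finset.card_le_four
    rw [Finset.card_image_of_injective _ Subtype.val_injective, Finset.card_univ,
      ← Nat.card_eq_fintype_card, hA8] at this
    omega
  have hff := hA2 f hf
  -- the decomposition
  have hdec : ∀ a ∈ A, InZ z a ∨ InZ z (e * a) ∨ InZ z (f * a) ∨ InZ z (e * (f * a)) := by
    intro a ha
    set H0 := Subgroup.zpowers z ⊔ Subgroup.zpowers e with hH0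
    have hzpe : ∀ t ∈ Subgroup.zpowers e, t = 1 ∨ t = e := fun t ht => by
      obtain ⟨i, rfl⟩ := Subgroup.mem_zpowers_iff.1 ht
      rcases Int.even_or_odd' i with ⟨j, rfl | rfl⟩
      · left; rw [zpow_mul, zpow_two, hee, one_zpow]
      · right; rw [zpow_add, zpow_mul, zpow_two, hee, one_zpow, one_mul, zpow_one]
    have hH0mem : ∀ t ∈ H0, InZ z t ∨ InZ z (e * t) := by
      intro t ht
      obtain ⟨ε, hε, d, hd, rfl⟩ := Subgroup.mem_sup_of_normal_left.1 ht
      rcases hzpe d hd with rfl | rfl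
      · left; rw [mul_one]; exact h.mem_inZ hε
      · right
        rw [Subgroup.mem_center_iff.1 (h.inZ_center (h.mem_inZ hε)) d |>.symm, ← mul_assoc, hee,
          one_mul]
        exact h.mem_inZ hε
    have hH0A : H0 ≤ A := sup_le (Subgroup.zpowers_le.2 hzA) (Subgroup.zpowers_le.2 he)
    have hfH0 : f ∉ H0 := fun hh => (hH0mem f hh).elim hf1 hf2
    have hcard : 4 ≤ Nat.card H0 := by
      rw [hH0, Coprime.card_sup_of_disjoint Subgroup.le_normalizer_of_normal, h.card_zpowers,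
        Nat.card_zpowers]
      · have : orderOf e = 2 := orderOf_eq_prime (by rw [pow_two, hee]) fun h1 => henot' (Or.inl h1)
        omega
      · rw [Subgroup.disjoint_def]
        intro t ht1 ht2
        rcases hzpe t ht2 with rfl | rfl
        · rfl
        · exact absurd (h.mem_inZ ht1) henot'
    have hidx : (H0.subgroupOf A).index = 2 := by
      have h1 := (H0.subgroupOf A).card_mul_index
      rw [Nat.card_congr (Subgroup.subgroupOfEquivOfLe hH0A).toEquiv, hA8] at h1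
      have h2 : (H0.subgroupOf A).index ≠ 1 := fun h1 =>
        hfH0 ((Subgroup.index_eq_one.1 h1 ▸ Subgroup.mem_top _ : (⟨f, hf⟩ : A) ∈ H0.subgroupOf A))
      have h3 : (H0.subgroupOf A).index ≠ 0 := Subgroup.index_ne_zero_of_finite
      have h4 : (H0.subgroupOf A).index ≤ 2 := by nlinarith
      omega
    by_cases haH : a ∈ H0
    · rcases hH0mem a haH with h1 | h1
      · exact Or.inl h1
      · exact Or.inr (Or.inl h1)
    · have hfa : (⟨f, hf⟩ * ⟨a, ha⟩ : A) ∈ H0.subgroupOf A :=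
        (Subgroup.mul_mem_iff_of_index_two hidx).2 ⟨fun h1 => absurd h1 hfH0, fun h1 => absurd h1 haH⟩
      rcases hH0mem (f * a) hfa with h1 | h1
      · exact Or.inr (Or.inr (Or.inl h1))
      · exact Or.inr (Or.inr (Or.inr h1))
  -- the transvections
  have hmove : ∀ v ∈ A, ¬ InZ z v → ∃ g ∈ Q, g * v * g⁻¹ * v⁻¹ = z := by
    intro v hv hvn
    by_contra hcon
    push Not at hcon
    refine hvn (h.cen v fun y hy => ?_)
    have h1 := (h.comm y hy v (hle hv)).resolve_right (hcon y hy)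
    rw [mul_inv_eq_one, mul_inv_eq_iff_eq_mul] at h1
    exact h1.symm
  have hmul : ∀ g ∈ Q, ∀ k ∈ Q, ∀ v ∈ A,
      g * k * v * (g * k)⁻¹ * v⁻¹ = k * v * k⁻¹ * v⁻¹ * (g * v * g⁻¹ * v⁻¹) := fun g _ k hk v hv =>
    Setup.comm_mul g k v (h.inZ_center (h.comm k hk v (hle hv)))
  have hefadd : ∀ g ∈ Q, g * (e * f) * g⁻¹ * (e * f)⁻¹ =
      g * e * g⁻¹ * e⁻¹ * (g * f * g⁻¹ * f⁻¹) := fun g hg => by
    have hc := Subgroup.mem_center_iff.1 (h.inZ_center (h.comm g hg f (hle hf))) e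
    calc g * (e * f) * g⁻¹ * (e * f)⁻¹
        = g * e * g⁻¹ * (g * f * g⁻¹ * f⁻¹ * e⁻¹) := by group
      _ = g * e * g⁻¹ * (e⁻¹ * (g * f * g⁻¹ * f⁻¹)) := by
          rw [Subgroup.mem_center_iff.1 (h.inZ_center (h.comm g hg f (hle hf))) e⁻¹]
      _ = _ := by group
  obtain ⟨g1, hg1, hg1e⟩ := hmove e he henot'
  obtain ⟨g2, hg2, hg2f⟩ := hmove f hf hf1
  obtain ⟨g3, hg3, hg3ef⟩ := hmove (e * f) (mul_mem he hf) hf2
  rw [hefadd g3 hg3] at hg3ef
  have key : ∃ p ∈ Q, ∃ q ∈ Q, p * e * p⁻¹ * e⁻¹ = z ∧ p * f * p⁻¹ * f⁻¹ = 1 ∧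
      q * e * q⁻¹ * e⁻¹ = 1 ∧ q * f * q⁻¹ * f⁻¹ = z := by
    rcases h.comm g1 hg1 f (hle hf) with h1 | h1 <;> rcases h.comm g2 hg2 e (hle he) with h2 | h2
    · exact ⟨g1, hg1, g2, hg2, hg1e, h1, h2, hg2f⟩
    · refine ⟨g1, hg1, g1 * g2, mul_mem hg1 hg2, hg1e, h1, ?_, ?_⟩
      · rw [hmul g1 hg1 g2 hg2 e he, h2, hg1e, h.zz]
      · rw [hmul g1 hg1 g2 hg2 f hf, hg2f, h1, mul_one]
    · refine ⟨g1 * g2, mul_mem hg1 hg2, g2, hg2, ?_, ?_, h2, hg2f⟩
      · rw [hmul g1 hg1 g2 hg2 e he, h2, hg1e, one_mul]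
      · rw [hmul g1 hg1 g2 hg2 f hf, hg2f, h1, h.zz]
    · rcases h.comm g3 hg3 e (hle he) with h3 | h3
      · rw [h3, one_mul] at hg3ef
        refine ⟨g1 * g3, mul_mem hg1 hg3, g3, hg3, ?_, ?_, h3, hg3ef⟩
        · rw [hmul g1 hg1 g3 hg3 e he, h3, hg1e, one_mul]
        · rw [hmul g1 hg1 g3 hg3 f hf, hg3ef, h1, h.zz]
      · rw [h3, mul_eq_left] at hg3ef
        refine ⟨g3, hg3, g1 * g3, mul_mem hg1 hg3, h3, hg3ef, ?_, ?_⟩
        · rw [hmul g1 hg1 g3 hg3 e he, h3, hg1e, h.zz]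
        · rw [hmul g1 hg1 g3 hg3 f hf, hg3ef, h1, one_mul]
  obtain ⟨p, hp, q, hq, hpe, hpf, hqe, hqf⟩ := key
  exact ⟨e, f, p, q, h, inferInstance, hcomm, hA2, hA8, hle, he, henot',
    fun g => h.mem_inZ (heorb g trivial), hf, ⟨hf1, hf2⟩, hdec, hp, hpe, hpf, hq, hqe, hqf⟩

namespace Eight

variable {Q A : Subgroup S} {z e f p q : S} (E : Eight Q A z e f p q)
include E

theorem zmem : z ∈ A := by
  have hw : p * e * p⁻¹ ∈ A := E.normal.conj_mem e E.emem p
  rw [← E.pe]
  exact mul_mem hw (inv_mem E.emem)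

theorem inZ_A {x : S} (hx : InZ z x) : x ∈ A :=
  Subgroup.zpowers_le.2 E.zmem (E.setup.inZ_mem hx)

theorem centralizer_normal : (Subgroup.centralizer (A : Set S)).Normal := by
  haveI := E.normal; infer_instance

theorem mem_centralizer {s : S} (he : s * e = e * s) (hf : s * f = f * s) :
    s ∈ Subgroup.centralizer (A : Set S) := by
  refine Subgroup.mem_centralizer_iff.2 fun a ha => ?_
  have hle : ∀ t, InZ z t → t ∈ Subgroup.centralizer ({s} : Set S) := fun t ht =>
    Subgroup.mem_centralizer_singleton_iff.2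
      (Subgroup.mem_center_iff.1 (E.setup.inZ_center ht) s).symm
  have hec : e ∈ Subgroup.centralizer ({s} : Set S) :=
    Subgroup.mem_centralizer_singleton_iff.2 he.symm
  have hfc : f ∈ Subgroup.centralizer ({s} : Set S) :=
    Subgroup.mem_centralizer_singleton_iff.2 hf.symm
  refine Subgroup.mem_centralizer_singleton_iff.1 ?_
  rcases E.decomp a ha with h1 | h1 | h1 | h1
  · exact hle a h1
  · exact (Subgroup.mul_mem_cancel_left _ hec).1 (hle _ h1)
  · exact (Subgroup.mul_mem_cancel_left _ hfc).1 (hle _ h1)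
  · exact (Subgroup.mul_mem_cancel_left _ hfc).1
      ((Subgroup.mul_mem_cancel_left _ hec).1 (hle _ h1))

/-- Elements acting equally on `e` and `f` differ by an element of `C(A)`. -/
theorem inv_mul_mem {g k : S} (he : g * e * g⁻¹ = k * e * k⁻¹) (hf : g * f * g⁻¹ = k * f * k⁻¹) :
    g⁻¹ * k ∈ Subgroup.centralizer (A : Set S) := by
  refine E.mem_centralizer ?_ ?_
  · calc g⁻¹ * k * e = g⁻¹ * (k * e * k⁻¹) * k := by group
      _ = e * (g⁻¹ * k) := by rw [← he]; group
  · calc g⁻¹ * k * f = g⁻¹ * (k * f * k⁻¹) * k := by group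
      _ = f * (g⁻¹ * k) := by rw [← hf]; group

theorem inv_mul_mem' {g k : S} (he : g * e * g⁻¹ * e⁻¹ = k * e * k⁻¹ * e⁻¹)
    (hf : g * f * g⁻¹ * f⁻¹ = k * f * k⁻¹ * f⁻¹) :
    g⁻¹ * k ∈ Subgroup.centralizer (A : Set S) :=
  E.inv_mul_mem (mul_right_cancel he) (mul_right_cancel hf)

theorem comm_mul {g k : S} (hk : k ∈ Q) {v : S} (hv : v ∈ A) :
    g * k * v * (g * k)⁻¹ * v⁻¹ = k * v * k⁻¹ * v⁻¹ * (g * v * g⁻¹ * v⁻¹) :=
  Setup.comm_mul g k v (E.setup.inZ_center (E.setup.comm k hk v (E.le hv)))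

/-- Every pair of signs is realised by `1, p, q, p q`. -/
theorem exists_real {εe εf : S} (he : InZ z εe) (hf : InZ z εf) :
    ∃ g ∈ Q, g * e * g⁻¹ * e⁻¹ = εe ∧ g * f * g⁻¹ * f⁻¹ = εf := by
  rcases he with rfl | rfl <;> rcases hf with rfl | rfl
  · exact ⟨1, one_mem _, by group, by group⟩
  · exact ⟨q, E.qmem, E.qe, E.qf⟩
  · exact ⟨p, E.pmem, E.pe, E.pf⟩
  · refine ⟨p * q, mul_mem E.pmem E.qmem, ?_, ?_⟩
    · rw [E.comm_mul E.qmem E.emem, E.qe, E.pe, one_mul]
    · rw [E.comm_mul E.qmem E.fmem, E.qf, E.pf, mul_one]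

/-- An element of `Q` centralising `A` lies in `A`. -/
theorem mem_of_mem_Q {x : S} (hxQ : x ∈ Q) (hxC : x ∈ Subgroup.centralizer (A : Set S)) :
    x ∈ A := by
  classical
  set K := Q ⊓ Subgroup.centralizer (A : Set S) with hK
  have hAK : A ≤ K := le_inf E.le fun a ha => Subgroup.mem_centralizer_iff.2 fun b hb =>
    E.comm b hb a ha
  suffices hcard : Nat.card K ≤ 8 by
    rw [Subgroup.eq_of_le_of_card_ge hAK (hcard.trans E.card.ge)]
    exact ⟨hxQ, hxC⟩
  -- four disjoint cosets of `K` inside `Q`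
  have hinj : Function.Injective (fun t : (Subgroup.zpowers z × Subgroup.zpowers z) × K =>
      (⟨(E.exists_real (E.setup.mem_inZ t.1.1.2) (E.setup.mem_inZ t.1.2.2)).choose * (t.2 : S),
        mul_mem (E.exists_real (E.setup.mem_inZ t.1.1.2) (E.setup.mem_inZ t.1.2.2)).choose_spec.1
          t.2.2.1⟩ : Q)) := by
    rintro ⟨⟨a, b⟩, k⟩ ⟨⟨a', b'⟩, k'⟩ hh
    have hh' := congrArg Subtype.val hh
    simp only at hh'
    obtain ⟨-, h1, h2⟩ := (E.exists_real (E.setup.mem_inZ a.2) (E.setup.mem_inZ b.2)).choose_spec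
    obtain ⟨-, h1', h2'⟩ := (E.exists_real (E.setup.mem_inZ a'.2) (E.setup.mem_inZ b'.2)).choose_spec
    set g := (E.exists_real (E.setup.mem_inZ a.2) (E.setup.mem_inZ b.2)).choose
    set g' := (E.exists_real (E.setup.mem_inZ a'.2) (E.setup.mem_inZ b'.2)).choose
    have hconj : ∀ v ∈ A, g * v * g⁻¹ = g' * v * g'⁻¹ := by
      intro v hv
      have hk : (k : S) * v * (k : S)⁻¹ = v := by
        rw [← Subgroup.mem_centralizer_iff.1 k.2.2 v hv, mul_inv_cancel_right]
      have hk' : (k' : S) * v * (k' : S)⁻¹ = v := by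
        rw [← Subgroup.mem_centralizer_iff.1 k'.2.2 v hv, mul_inv_cancel_right]
      calc g * v * g⁻¹ = g * ((k : S) * v * (k : S)⁻¹) * g⁻¹ := by rw [hk]
        _ = g * (k : S) * v * (g * (k : S))⁻¹ := by group
        _ = g' * ((k' : S) * v * (k' : S)⁻¹) * g'⁻¹ := by rw [hh']; group
        _ = _ := by rw [hk']
    have hae : a = a' := Subtype.ext (by rw [← h1, ← h1', hconj e E.emem])
    have hbe : b = b' := Subtype.ext (by rw [← h2, ← h2', hconj f E.fmem])
    subst hae hbe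
    exact Prod.ext rfl (Subtype.ext (mul_left_cancel hh'))
  have := Nat.card_le_card_of_injective _ hinj
  rw [Nat.card_prod, Nat.card_prod, E.setup.card_zpowers, E.setup.card] at this
  omega

theorem notMem_centralizer {x : S} (hxQ : x ∈ Q) (hx : x ∉ A) :
    x ∉ Subgroup.centralizer (A : Set S) := fun hC => hx (E.mem_of_mem_Q hxQ hC)

theorem mem_singleton_centralizer {v d : S} (hv : v ∈ Subgroup.centralizer (A : Set S))
    (hd : d ∈ A) : d ∈ Subgroup.centralizer ({v} : Set S) :=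
  Subgroup.mem_centralizer_singleton_iff.2 (Subgroup.mem_centralizer_iff.1 hv d hd)

/-- An element of `C(A)` commuting with `p` and `q` lies in the centre of `Q`. -/
theorem inZ_of_commute {v : S} (hv : v ∈ Subgroup.centralizer (A : Set S)) (hp : v * p = p * v)
    (hq : v * q = q * v) : InZ z v := by
  refine E.setup.cen v fun t ht => ?_
  have hpK : p ∈ Subgroup.centralizer ({v} : Set S) :=
    Subgroup.mem_centralizer_singleton_iff.2 hp.symm
  have hqK : q ∈ Subgroup.centralizer ({v} : Set S) :=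
    Subgroup.mem_centralizer_singleton_iff.2 hq.symm
  obtain ⟨g, hgK, hgQ, hge, hgf⟩ : ∃ g ∈ Subgroup.centralizer ({v} : Set S), g ∈ Q ∧
      g * e * g⁻¹ * e⁻¹ = t * e * t⁻¹ * e⁻¹ ∧ g * f * g⁻¹ * f⁻¹ = t * f * t⁻¹ * f⁻¹ := by
    rcases E.setup.comm t ht e (E.le E.emem) with h1 | h1 <;>
      rcases E.setup.comm t ht f (E.le E.fmem) with h2 | h2 <;> rw [h1, h2]
    · exact ⟨1, one_mem _, one_mem _, by group, by group⟩
    · exact ⟨q, hqK, E.qmem, E.qe, E.qf⟩
    · exact ⟨p, hpK, E.pmem, E.pe, E.pf⟩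
    · refine ⟨p * q, mul_mem hpK hqK, mul_mem E.pmem E.qmem, ?_, ?_⟩
      · rw [E.comm_mul E.qmem E.emem, E.qe, E.pe, one_mul]
      · rw [E.comm_mul E.qmem E.fmem, E.qf, E.pf, mul_one]
  have := mul_mem hgK (E.mem_singleton_centralizer hv
    (E.mem_of_mem_Q (mul_mem (inv_mem hgQ) ht) (E.inv_mul_mem' hge hgf)))
  rw [mul_inv_cancel_left] at this
  exact (Subgroup.mem_centralizer_singleton_iff.1 this).symm

/-- No element of `Q ∖ A` centralises an element of `C(A) ∖ A`. -/
theorem fixed_le (hS : IsPGroup 2 S) {x c : S} (hxQ : x ∈ Q) (hxA : x ∉ A)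
    (hc : c ∈ Subgroup.centralizer (A : Set S)) (hcx : c * x = x * c) : c ∈ A := by
  have h := E.setup
  haveI := E.centralizer_normal
  haveI := E.normal
  set X := Subgroup.centralizer (A : Set S) ⊓ Subgroup.centralizer ({x} : Set S) with hX
  set W := A ⊓ Subgroup.centralizer ({x} : Set S) with hW
  -- a second element of `Q` generating `Q` with `A` and `x`
  obtain ⟨y, hyQ, hgen⟩ : ∃ y ∈ Q, ∀ v : S, v * x = x * v → v * y = y * v →
      v ∈ Subgroup.centralizer (A : Set S) → InZ z v := by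
    have hxC := E.notMem_centralizer hxQ hxA
    rcases h.comm x hxQ e (E.le E.emem) with h1 | h1
    · have hxf : x * f * x⁻¹ * f⁻¹ = z := (h.comm x hxQ f (E.le E.fmem)).resolve_left fun h2 => by
        rw [mul_inv_eq_one, mul_inv_eq_iff_eq_mul] at h1 h2
        exact hxC (E.mem_centralizer h1 h2)
      have hd := E.mem_of_mem_Q (mul_mem (inv_mem hxQ) E.qmem)
        (E.inv_mul_mem' (h1.trans E.qe.symm) (hxf.trans E.qf.symm))
      refine ⟨p, E.pmem, fun v hvx hvp hvC => E.inZ_of_commute hvC hvp ?_⟩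
      have := mul_mem (Subgroup.mem_centralizer_singleton_iff.2 hvx.symm)
        (E.mem_singleton_centralizer hvC hd)
      rw [mul_inv_cancel_left] at this
      exact (Subgroup.mem_centralizer_singleton_iff.1 this).symm
    · rcases h.comm x hxQ f (E.le E.fmem) with h2 | h2
      · have hd := E.mem_of_mem_Q (mul_mem (inv_mem hxQ) E.pmem)
          (E.inv_mul_mem' (h1.trans E.pe.symm) (h2.trans E.pf.symm))
        refine ⟨q, E.qmem, fun v hvx hvq hvC => E.inZ_of_commute hvC ?_ hvq⟩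
        have := mul_mem (Subgroup.mem_centralizer_singleton_iff.2 hvx.symm)
          (E.mem_singleton_centralizer hvC hd)
        rw [mul_inv_cancel_left] at this
        exact (Subgroup.mem_centralizer_singleton_iff.1 this).symm
      · have hd : (p * q)⁻¹ * x ∈ A := by
          refine E.mem_of_mem_Q (mul_mem (inv_mem (mul_mem E.pmem E.qmem)) hxQ)
            (E.inv_mul_mem' ?_ ?_)
          · rw [E.comm_mul E.qmem E.emem, E.qe, E.pe, one_mul, h1]
          · rw [E.comm_mul E.qmem E.fmem, E.qf, E.pf, mul_one, h2]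
        refine ⟨p, E.pmem, fun v hvx hvp hvC => E.inZ_of_commute hvC hvp ?_⟩
        have := mul_mem (inv_mem (Subgroup.mem_centralizer_singleton_iff.2 hvp.symm))
          (mul_mem (Subgroup.mem_centralizer_singleton_iff.2 hvx.symm)
            (inv_mem (E.mem_singleton_centralizer hvC hd)))
        rw [show p⁻¹ * (x * ((p * q)⁻¹ * x)⁻¹) = q by group] at this
        exact (Subgroup.mem_centralizer_singleton_iff.1 this).symm
  -- a fixed point of `x` in `A` outside `⟨z⟩`
  obtain ⟨w, hw, hwn⟩ : ∃ w ∈ W, ¬ InZ z w := by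
    have hmem : ∀ v ∈ A, x * v * x⁻¹ * v⁻¹ = 1 → v ∈ W := fun v hv h1 => by
      rw [mul_inv_eq_one, mul_inv_eq_iff_eq_mul] at h1
      exact ⟨hv, Subgroup.mem_centralizer_singleton_iff.2 h1.symm⟩
    rcases h.comm x hxQ e (E.le E.emem) with h1 | h1
    · exact ⟨e, hmem e E.emem h1, E.enot⟩
    rcases h.comm x hxQ f (E.le E.fmem) with h2 | h2
    · exact ⟨f, hmem f E.fmem h2, E.fnot.1⟩
    refine ⟨e * f, hmem _ (mul_mem E.emem E.fmem) ?_, E.fnot.2⟩
    calc x * (e * f) * x⁻¹ * (e * f)⁻¹ = x * e * x⁻¹ * (x * f * x⁻¹ * f⁻¹ * e⁻¹) := by group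
      _ = x * e * x⁻¹ * (e⁻¹ * (x * f * x⁻¹ * f⁻¹)) := by
          rw [h2, h.comm_z e⁻¹]
      _ = (x * e * x⁻¹ * e⁻¹) * (x * f * x⁻¹ * f⁻¹) := by group
      _ = 1 := by rw [h1, h2, h.zz]
  by_contra hcA
  have hQX : Q ≤ Subgroup.normalizer (X : Set S) ∧ Q ≤ Subgroup.normalizer (W : Set S) := by
    have hconj : ∀ g ∈ Q, ∀ v : S, v * x = x * v → g * v * g⁻¹ * x = x * (g * v * g⁻¹) := by
      intro g hg v hv
      have hε := h.comm g⁻¹ (inv_mem hg) x hxQ
      set ε := g⁻¹ * x * g⁻¹⁻¹ * x⁻¹ with hε'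
      have h1 : v * ε = ε * v := Subgroup.mem_center_iff.1 (h.inZ_center hε) v
      calc g * v * g⁻¹ * x = g * (v * (ε * x)) * g⁻¹ := by rw [hε']; group
        _ = g * (ε * x * v) * g⁻¹ := by rw [← mul_assoc v, h1, mul_assoc ε v, hv, ← mul_assoc ε]
        _ = x * (g * v * g⁻¹) := by rw [hε']; group
    refine ⟨Subgroup.le_normalizer_iff.2 fun g hg v hv => ⟨E.centralizer_normal.conj_mem v hv.1 g,
      Subgroup.mem_centralizer_singleton_iff.2
        (hconj g hg v (Subgroup.mem_centralizer_singleton_iff.1 hv.2))⟩,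
      Subgroup.le_normalizer_iff.2 fun g hg v hv => ⟨E.normal.conj_mem v hv.1 g,
        Subgroup.mem_centralizer_singleton_iff.2
          (hconj g hg v (Subgroup.mem_centralizer_singleton_iff.1 hv.2))⟩⟩
  have hAC : A ≤ Subgroup.centralizer (A : Set S) := fun a ha =>
    Subgroup.mem_centralizer_iff.2 fun b hb => E.comm b hb a ha
  have hlt : W < X := lt_of_le_not_ge (inf_le_inf_right _ hAC) fun hle =>
    hcA (hle ⟨hc, Subgroup.mem_centralizer_singleton_iff.2 hcx⟩).1
  obtain ⟨u, hu, huW, -, huorb⟩ := exists_step hS (G := Q ⊔ X) (N := W) (C := X)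
    (sup_le hQX.2 (fun v hv => Subgroup.mem_normalizer_iff.2 fun t => by
      constructor
      · intro ht
        rwa [← Subgroup.mem_centralizer_iff.1 hv.1 t ht.1, mul_inv_cancel_right]
      · intro ht
        have : t = v⁻¹ * (v * t * v⁻¹) * v := by group
        rw [this, mul_assoc, Subgroup.mem_centralizer_iff.1 hv.1 _ ht.1, inv_mul_cancel_left]
        exact ht))
    (sup_le hQX.1 Subgroup.le_normalizer) le_sup_right hlt
  have hfix : ∀ v ∈ X, y * v * y⁻¹ = v → v ∈ W := fun v hv he => by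
    have hvz := hgen v (Subgroup.mem_centralizer_singleton_iff.1 hv.2)
      (mul_inv_eq_iff_eq_mul.1 he).symm hv.1
    exact ⟨E.inZ_A hvz, hv.2⟩
  have hyw : ∀ v ∈ W, ¬ InZ z v → y * v * y⁻¹ = v * z := fun v hv hvn => by
    rcases h.comm y hyQ v (E.le hv.1) with h1 | h1
    · rw [mul_inv_eq_one] at h1
      exact absurd (hgen v (Subgroup.mem_centralizer_singleton_iff.1 hv.2)
        (mul_inv_eq_iff_eq_mul.1 h1).symm (hAC hv.1)) hvn
    · rw [mul_inv_eq_iff_eq_mul] at h1
      rw [h1, h.comm_z v]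
  set ε := y * u * y⁻¹ * u⁻¹ with hε
  have hεW : ε ∈ W := huorb y (Subgroup.mem_sup_left hyQ)
  have hyu : y * u * y⁻¹ = ε * u := by rw [hε]; group
  by_cases hεZ : InZ z ε
  · rcases hεZ with h1 | h1
    · exact huW (hfix u hu (by rw [hyu, h1, one_mul]))
    · refine huW ((Subgroup.mul_mem_cancel_right _ hw).1 (hfix (u * w)
        (mul_mem hu ⟨hAC hw.1, hw.2⟩) ?_))
      rw [show y * (u * w) * y⁻¹ = y * u * y⁻¹ * (y * w * y⁻¹) by group, hyu, hyw w hw hwn, h1]
      rw [show z * u * (w * z) = (z * u) * w * z by group, ← h.comm_z u, mul_assoc (u * z) w,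
        h.comm_z w, mul_assoc u z, ← mul_assoc z z, h.zz, one_mul]
  · have h2 : y * (y * u * y⁻¹) * y⁻¹ = u := by
      have hc := Subgroup.mem_center_iff.1 (h.inZ_center (h.sq y hyQ)) u
      calc y * (y * u * y⁻¹) * y⁻¹ = y * y * u * (y * y)⁻¹ := by group
        _ = u := by rw [← hc, mul_inv_cancel_right]
    rw [hyu, show y * (ε * u) * y⁻¹ = y * ε * y⁻¹ * (y * u * y⁻¹) by group, hyw ε hεW hεZ,
      hyu] at h2
    refine h.zne (mul_right_cancel (b := u) ?_)
    rw [one_mul]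
    calc z * u = ε * (ε * z) * u := by rw [← mul_assoc, E.sq ε hεW.1, one_mul]
      _ = ε * (z * ε) * u := by rw [h.comm_z ε]
      _ = ε * z * (ε * u) := by group
      _ = u := h2

theorem card_inf_centralizer_le {x : S} (hxQ : x ∈ Q) (hxA : x ∉ A) :
    Nat.card ↥(A ⊓ Subgroup.centralizer ({x} : Set S)) ≤ 4 := by
  refine card_le_four E.card (lt_of_le_of_ne inf_le_left fun he => E.notMem_centralizer hxQ hxA
    (Subgroup.mem_centralizer_iff.2 fun a ha => ?_))
  have ha' : a ∈ A ⊓ Subgroup.centralizer ({x} : Set S) := he.symm ▸ ha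
  exact Subgroup.mem_centralizer_singleton_iff.1 ha'.2

theorem notMem_A_of_moves {x : S} {v ε : S} (hv : v ∈ A) (h1 : x * v * x⁻¹ * v⁻¹ = ε)
    (hε : ε ≠ 1) : x ∉ A := fun hx => hε (by
  rw [← h1, E.comm x hx v hv, mul_inv_cancel_right, mul_inv_cancel])

/-- `C(A)` is `A` or has order 16. -/
theorem card_centralizer_le (hS : IsPGroup 2 S) :
    Nat.card (Subgroup.centralizer (A : Set S)) ≤ 16 := by
  set C := Subgroup.centralizer (A : Set S) with hC
  haveI := E.normal
  haveI hCn : C.Normal := E.centralizer_normal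
  have hAC : A ≤ C := fun a ha => Subgroup.mem_centralizer_iff.2 fun b hb => E.comm b hb a ha
  by_contra hlt
  push Not at hlt
  obtain ⟨t, htC, htA, htt, htorb⟩ := exists_step hS (G := ⊤) (N := A) (C := C)
    Subgroup.le_normalizer_of_normal Subgroup.le_normalizer_of_normal le_top
    (lt_of_le_of_ne hAC fun he => by rw [← he, E.card] at hlt; omega)
  let A1 : Subgroup S :=
    { carrier := {s | s ∈ A ∨ s * t ∈ A}
      one_mem' := Or.inl (one_mem _)
      mul_mem' := fun {a b} ha hb => by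
        rcases ha with ha | ha <;> rcases hb with hb | hb
        · exact Or.inl (mul_mem ha hb)
        · exact Or.inr (by rw [mul_assoc]; exact mul_mem ha hb)
        · refine Or.inr ?_
          have hbt : t * b = b * t := (Subgroup.mem_centralizer_iff.1 htC b hb).symm
          rw [show a * b * t = a * (b * t) by group, ← hbt, ← mul_assoc]
          exact mul_mem ha hb
        · refine Or.inl ?_
          have hbt : (b * t) * t = t * (b * t) := Subgroup.mem_centralizer_iff.1 htC _ hb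
          rw [show a * b = a * t * ((b * t * t)⁻¹ * (b * t * t)) * t⁻¹ * b by group,
            show a * t * ((b * t * t)⁻¹ * (b * t * t)) * t⁻¹ * b = a * t * t⁻¹ * (b * t) * t⁻¹ by
              group]
          have h1 : t⁻¹ * (b * t) * t⁻¹ = (b * t) * (t * t)⁻¹ := by
            calc t⁻¹ * (b * t) * t⁻¹ = t⁻¹ * (b * t * t) * (t * t)⁻¹ := by group
              _ = _ := by rw [hbt]; group
          rw [mul_assoc (a * t) t⁻¹, mul_assoc (a * t), h1]
          exact mul_mem ha (mul_mem hb (inv_mem htt))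
      inv_mem' := fun {a} ha => by
        rcases ha with ha | ha
        · exact Or.inl (inv_mem ha)
        · refine Or.inr ?_
          have hat : (a * t) * t = t * (a * t) := Subgroup.mem_centralizer_iff.1 htC _ ha
          rw [show a⁻¹ * t = t * ((a * t)⁻¹ * t) by group]
          have h1 : t * ((a * t)⁻¹ * t) = (a * t)⁻¹ * (t * t) := by
            have hc : Commute ((a * t)⁻¹) t := (show Commute (a * t) t from hat).inv_left
            rw [← mul_assoc, ← hc.eq, mul_assoc]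
          rw [h1]
          exact mul_mem (inv_mem ha) htt }
  have htA1 : t ∈ A1 := Or.inr htt
  have hAA1 : A ≤ A1 := fun a ha => Or.inl ha
  haveI hA1n : A1.Normal := ⟨fun s hs g => by
    have hg : g * t * g⁻¹ * t⁻¹ ∈ A := htorb g trivial
    rcases hs with hs | hs
    · exact Or.inl (E.normal.conj_mem s hs g)
    · refine Or.inr ?_
      rw [show g * s * g⁻¹ * t = g * (s * t) * g⁻¹ * (t⁻¹ * (g * t * g⁻¹ * t⁻¹)⁻¹ * t) by group]
      exact mul_mem (E.normal.conj_mem _ hs g) (E.normal.conj_mem' _ (inv_mem hg) t)⟩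
  have hA1C : A1 ≤ C := by
    intro s hs
    rcases hs with hs | hs
    · exact hAC hs
    · exact (Subgroup.mul_mem_cancel_right _ htC).1 (hAC hs)
  have hA1card : Nat.card A1 ≤ 16 := by
    classical
    have hsurj : Function.Surjective (fun ab : A × Bool =>
        (⟨if ab.2 then (ab.1 : S) * t⁻¹ else ab.1, by
          split_ifs with hb
          · exact mul_mem (hAA1 ab.1.2) (inv_mem htA1)
          · exact hAA1 ab.1.2⟩ : A1)) := by
      rintro ⟨s, hs | hs⟩
      · exact ⟨(⟨s, hs⟩, false), rfl⟩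
      · exact ⟨(⟨s * t, hs⟩, true), Subtype.ext (mul_inv_cancel_right _ _)⟩
    refine (Nat.card_le_card_of_surjective _ hsurj).trans (le_of_eq ?_)
    rw [Nat.card_prod, E.card]
    simp
  obtain ⟨u, huC, huA1, -, huorb⟩ := exists_step hS (G := ⊤) (N := A1) (C := C)
    Subgroup.le_normalizer_of_normal Subgroup.le_normalizer_of_normal le_top
    (lt_of_le_of_ne hA1C fun he => by rw [← he] at hlt; omega)
  -- some element of `Q ∖ A` fixes `u` modulo `A`
  obtain ⟨x, hxQ, hxA, hxu⟩ : ∃ x ∈ Q, x ∉ A ∧ x * u * x⁻¹ * u⁻¹ ∈ A := by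
    have hpA : p ∉ A := E.notMem_A_of_moves E.emem E.pe E.setup.zne
    have hqA : q ∉ A := E.notMem_A_of_moves E.fmem E.qf E.setup.zne
    have hpqA : p * q ∉ A := E.notMem_A_of_moves E.emem
      (by rw [E.comm_mul E.qmem E.emem, E.qe, E.pe, one_mul]) E.setup.zne
    rcases huorb p trivial with hp | hp
    · exact ⟨p, E.pmem, hpA, hp⟩
    rcases huorb q trivial with hq | hq
    · exact ⟨q, E.qmem, hqA, hq⟩
    refine ⟨p * q, mul_mem E.pmem E.qmem, hpqA, ?_⟩
    set a := q * u * q⁻¹ * u⁻¹ * t with ha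
    set b := p * u * p⁻¹ * u⁻¹ * t with hb
    set d := p * t * p⁻¹ * t⁻¹ with hd
    have hdA : d ∈ A := htorb p trivial
    rw [show p * q * u * (p * q)⁻¹ * u⁻¹ = p * a * p⁻¹ * (d * t)⁻¹ * (b * t⁻¹) by
      rw [ha, hb, hd]; group]
    have h1 : (d * t)⁻¹ * (b * t⁻¹) = d⁻¹ * b * (t * t)⁻¹ := by
      have hdt : t * d = d * t := (Subgroup.mem_centralizer_iff.1 htC d hdA).symm
      have hbt : t * b = b * t := (Subgroup.mem_centralizer_iff.1 htC b hp).symm
      calc (d * t)⁻¹ * (b * t⁻¹) = (t * d)⁻¹ * (b * t⁻¹) := by rw [hdt]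
        _ = d⁻¹ * (t⁻¹ * (b * t)) * (t * t)⁻¹ := by group
        _ = _ := by rw [← hbt]; group
    rw [mul_assoc (p * a * p⁻¹), h1]
    exact mul_mem (E.normal.conj_mem a hq p) (mul_mem (mul_mem (inv_mem hdA) hp) (inv_mem htt))
  have hconjA : ∀ s : S, ∀ v ∈ A, s * v * s⁻¹ ∈ A := fun s v hv => E.normal.conj_mem v hv s
  let D : Subgroup S :=
    { carrier := {c | c ∈ C ∧ x * c * x⁻¹ * c⁻¹ ∈ A}
      one_mem' := ⟨one_mem _, by simp⟩
      mul_mem' := fun {a b} ha hb => ⟨mul_mem ha.1 hb.1, by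
        rw [show x * (a * b) * x⁻¹ * (a * b)⁻¹ =
          x * a * x⁻¹ * a⁻¹ * (a * (x * b * x⁻¹ * b⁻¹) * a⁻¹) by group]
        exact mul_mem ha.2 (hconjA a _ hb.2)⟩
      inv_mem' := fun {a} ha => ⟨inv_mem ha.1, by
        rw [show x * a⁻¹ * x⁻¹ * a⁻¹⁻¹ = a⁻¹ * (x * a * x⁻¹ * a⁻¹)⁻¹ * a⁻¹⁻¹ by group]
        exact hconjA _ _ (inv_mem ha.2)⟩ }
  set W := A ⊓ Subgroup.centralizer ({x} : Set S) with hW
  let φ : D →* S := MonoidHom.mk' (fun c => x * (c : S) * x⁻¹ * (c : S)⁻¹) fun a b => by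
    have hcm := Subgroup.mem_centralizer_iff.1 a.2.1 _ b.2.2
    calc x * ((a : S) * b) * x⁻¹ * ((a : S) * b)⁻¹
        = x * a * x⁻¹ * (a : S)⁻¹ * (a * (x * b * x⁻¹ * (b : S)⁻¹) * (a : S)⁻¹) := by group
      _ = _ := by rw [← hcm, mul_inv_cancel_right]
  have hrange : Nat.card φ.range ≤ 4 := by
    refine (Subgroup.card_le_of_le ?_).trans (E.card_inf_centralizer_le hxQ hxA)
    rintro _ ⟨c, rfl⟩
    refine ⟨c.2.2, Subgroup.mem_centralizer_singleton_iff.2 ?_⟩
    set v := x * (c : S) * x⁻¹ * (c : S)⁻¹ with hv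
    have hvv := E.sq v c.2.2
    have hc2 : x * x * (c : S) * (x * x)⁻¹ = c := by
      rw [← Subgroup.mem_center_iff.1 (E.setup.inZ_center (E.setup.sq x hxQ)) (c : S),
        mul_inv_cancel_right]
    have h1 : x * v * x⁻¹ * v = 1 := by
      calc x * v * x⁻¹ * v = x * x * (c : S) * (x * x)⁻¹ * (c : S)⁻¹ := by rw [hv]; group
        _ = 1 := by rw [hc2, mul_inv_cancel]
    rw [mul_eq_one_iff_eq_inv, inv_eq_of_mul_eq_one_right hvv, mul_inv_eq_iff_eq_mul] at h1
    exact h1.symm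
  have hker : Nat.card φ.ker ≤ 4 := by
    refine le_trans ?_ (E.card_inf_centralizer_le hxQ hxA)
    refine Nat.card_le_card_of_injective (fun c => ⟨((c : D) : S), ?_⟩) fun a b hab =>
      Subtype.ext (Subtype.ext (congrArg (fun v : ↥(A ⊓ Subgroup.centralizer ({x} : Set S)) =>
        (v : S)) hab :))
    have h1 : x * ((c : D) : S) * x⁻¹ * ((c : D) : S)⁻¹ = 1 := MonoidHom.mem_ker.1 c.2
    rw [mul_inv_eq_one, mul_inv_eq_iff_eq_mul] at h1
    exact ⟨E.fixed_le hS hxQ hxA (c : D).2.1 h1.symm,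
      Subgroup.mem_centralizer_singleton_iff.2 h1.symm⟩
  have hD : Nat.card D ≤ 16 := by
    rw [Subgroup.card_eq_card_quotient_mul_card_subgroup φ.ker,
      Nat.card_congr (QuotientGroup.quotientKerEquivRange φ).toEquiv]
    exact Nat.mul_le_mul hrange hker
  have hA1D : A1 ≤ D := fun s hs => ⟨hA1C hs, by
    rcases hs with hs | hs
    · exact mul_mem (hconjA x s hs) (inv_mem hs)
    · have h1 : x * t * x⁻¹ * t⁻¹ ∈ A := htorb x trivial
      rw [show x * s * x⁻¹ * s⁻¹ =
        x * (s * t) * x⁻¹ * (t⁻¹ * (x * t * x⁻¹ * t⁻¹)⁻¹ * t) * (t⁻¹ * s⁻¹) by group]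
      rw [show t⁻¹ * s⁻¹ = (s * t)⁻¹ from (mul_inv_rev _ _).symm]
      exact mul_mem (mul_mem (hconjA x _ hs) (E.normal.conj_mem' _ (inv_mem h1) t)) (inv_mem hs)⟩
  have h8 : 8 < Nat.card A1 := by
    refine lt_of_le_of_ne (E.card ▸ Subgroup.card_le_of_le hAA1) fun he => htA ?_
    rw [Subgroup.eq_of_le_of_card_ge hAA1 (by rw [E.card, he])]
    exact htA1
  have h16 : 16 ≤ Nat.card A1 := by
    obtain ⟨k, hk⟩ := Subgroup.card_dvd_of_le hAA1
    rw [E.card] at hk
    omega
  refine huA1 ((Subgroup.eq_of_le_of_card_ge hA1D (hD.trans h16)).symm ▸ ?_)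
  exact ⟨huC, hxu⟩

theorem commute_centralizer (hS : IsPGroup 2 S) {a b : S}
    (ha : a ∈ Subgroup.centralizer (A : Set S)) (hb : b ∈ Subgroup.centralizer (A : Set S)) :
    a * b = b * a := by
  set C := Subgroup.centralizer (A : Set S) with hC
  by_cases haA : a ∈ A
  · exact Subgroup.mem_centralizer_iff.1 hb a haA
  have hAC : A ≤ C := fun v hv => Subgroup.mem_centralizer_iff.2 fun w hw => E.comm w hw v hv
  set K := A ⊔ Subgroup.zpowers a with hK
  have hKC : K ≤ C := sup_le hAC (Subgroup.zpowers_le.2 ha)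
  have hKge : 16 ≤ Nat.card K := by
    have h8 : 8 < Nat.card K := by
      refine lt_of_le_of_ne (E.card ▸ Subgroup.card_le_of_le le_sup_left) fun he => haA ?_
      rw [Subgroup.eq_of_le_of_card_ge (le_sup_left : A ≤ K) (by rw [E.card, he])]
      exact Subgroup.mem_sup_right (Subgroup.mem_zpowers a)
    have hdvd : 8 ∣ Nat.card K := E.card ▸ Subgroup.card_dvd_of_le (le_sup_left : A ≤ K)
    omega
  have heq : K = C := Subgroup.eq_of_le_of_card_ge hKC ((E.card_centralizer_le hS).trans hKge)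
  have hle : K ≤ Subgroup.centralizer ({a} : Set S) :=
    sup_le (fun v hv => Subgroup.mem_centralizer_singleton_iff.2
      (Subgroup.mem_centralizer_iff.1 ha v hv))
      (Subgroup.zpowers_le.2 (Subgroup.mem_centralizer_singleton_iff.2 rfl))
  exact (Subgroup.mem_centralizer_singleton_iff.1 (hle (heq.symm ▸ hb))).symm

end Eight

end Cfsg.Agent.PGroups.Q8Q8
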