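import Mathlib
import Cfsg.Agent.Lib.Cores.Basic
import Cfsg.Agent.Lib.PGroups.Q8Q8.NormalEight

/-!
# Elementary abelian sections next to `Q₈ ∗ Q₈` and a normal `E₈`

With `C = C(A)` of order at most 16 and `S / C` of order at most 8, an elementary abelian quotient
of a subgroup has order at most 16.
-/

set_option autoImplicit false
set_option linter.style.haveILetI false
set_option linter.unusedSectionVars false

namespace Cfsg.Agent.PGroups.Q8Q8

universe u

variable {S : Type u} [Group S] [Finite S]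

/-- An index is bounded by the number of values of an invariant separating the cosets. -/
theorem relIndex_le_card {X : Type*} (C H : Subgroup S) (t : S → X) (T : Finset X)
    (hT : ∀ g ∈ H, t g ∈ T) (hinj : ∀ g ∈ H, ∀ k ∈ H, t g = t k → g⁻¹ * k ∈ C) :
    C.relIndex H ≤ T.card ∧ (T.card ≤ C.relIndex H → ∀ x ∈ T, ∃ g ∈ H, t g = x) := by
  classical
  let ψ : H ⧸ C.subgroupOf H → T := fun c => ⟨t (c.out : H), hT _ c.out.2⟩
  have hψ : Function.Injective ψ := by
    intro a b hab
    rw [← QuotientGroup.out_eq' a, ← QuotientGroup.out_eq' b, QuotientGroup.eq,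
      Subgroup.mem_subgroupOf]
    have := hinj _ a.out.2 _ b.out.2 (congrArg Subtype.val hab)
    simpa using this
  have hle : Nat.card (H ⧸ C.subgroupOf H) ≤ T.card := by
    rw [← Nat.card_eq_finsetCard]
    exact Nat.card_le_card_of_injective ψ hψ
  refine ⟨hle, fun hge x hx => ?_⟩
  obtain ⟨c, hc⟩ := ((Nat.bijective_iff_injective_and_card ψ).2 ⟨hψ, by
    rw [Nat.card_eq_finsetCard]; exact le_antisymm hle hge⟩).2 ⟨x, hx⟩
  exact ⟨c.out, c.out.2, congrArg Subtype.val hc⟩

/-- A group of order at most four with the given elements and one more outside is everything. -/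
theorem mem_or_mul_mem {A M : Subgroup S} (hA : Nat.card A = 8) (hMA : M ≤ A)
    (hM : 4 ≤ Nat.card M) {a v : S} (ha : a ∈ A) (haM : a ∉ M) (hv : v ∈ A) :
    v ∈ M ∨ a⁻¹ * v ∈ M := by
  have hidx : (M.subgroupOf A).index = 2 := by
    have h1 := (M.subgroupOf A).card_mul_index
    rw [Nat.card_congr (Subgroup.subgroupOfEquivOfLe hMA).toEquiv, hA] at h1
    have h2 : (M.subgroupOf A).index ≠ 1 := fun h1 =>
      haM ((Subgroup.index_eq_one.1 h1 ▸ Subgroup.mem_top _ : (⟨a, ha⟩ : A) ∈ M.subgroupOf A))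
    have h3 : (M.subgroupOf A).index ≠ 0 := Subgroup.index_ne_zero_of_finite
    have h4 : (M.subgroupOf A).index ≤ 2 := by nlinarith
    omega
  by_cases hvM : v ∈ M
  · exact Or.inl hvM
  · right
    have : (⟨a, ha⟩⁻¹ * ⟨v, hv⟩ : A) ∈ M.subgroupOf A :=
      (Subgroup.mul_mem_iff_of_index_two hidx).2
        ⟨fun h1 => absurd (show a⁻¹ ∈ M from h1) (fun h2 => haM (inv_mem_iff.1 h2)),
          fun h1 => absurd h1 hvM⟩
    exact this

namespace Eight

variable {Q A : Subgroup S} {z e f p q : S} (E : Eight Q A z e f p q)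
include E

theorem le_centralizer : A ≤ Subgroup.centralizer (A : Set S) := fun a ha =>
  Subgroup.mem_centralizer_iff.2 fun b hb => E.comm b hb a ha

/-- An element moving `e` and `f` only by `z` acts on `A` as an element of `Q`. -/
theorem exists_real_of {g : S} (he : InZ z (g * e * g⁻¹ * e⁻¹))
    (hf : InZ z (g * f * g⁻¹ * f⁻¹)) : ∃ x ∈ Q, x⁻¹ * g ∈ Subgroup.centralizer (A : Set S) := by
  obtain ⟨x, hx, hxe, hxf⟩ := E.exists_real he hf
  exact ⟨x, hx, E.inv_mul_mem' hxe hxf⟩

/-- An element of `C(A) ∖ A` is not fixed by an element acting as a transvection with centre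
`z`. -/
theorem not_commute (hS : IsPGroup 2 S) {g c : S} (hg : g ∉ Subgroup.centralizer (A : Set S))
    (he : InZ z (g * e * g⁻¹ * e⁻¹)) (hf : InZ z (g * f * g⁻¹ * f⁻¹))
    (hc : c ∈ Subgroup.centralizer (A : Set S)) (hcA : c ∉ A) : g * c ≠ c * g := by
  intro hgc
  obtain ⟨x, hx, hxg⟩ := E.exists_real_of he hf
  have hxA : x ∉ A := fun h1 => hg (by
    have := mul_mem (E.le_centralizer h1) hxg
    rwa [mul_inv_cancel_left] at this)
  refine hcA (E.fixed_le hS hx hxA hc ?_)
  have h1 : Commute c (g * (x⁻¹ * g)⁻¹) :=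
    (show Commute c g from hgc.symm).mul_right
      (show Commute c (x⁻¹ * g) from E.commute_centralizer hS hc hxg).inv_right
  rw [show g * (x⁻¹ * g)⁻¹ = x by group] at h1
  exact h1.eq

/-- The index of `C(A)` in a subgroup is at most eight, with a commutator outside in case of
equality. -/
theorem relIndex_le_eight (H : Subgroup S) :
    (Subgroup.centralizer (A : Set S)).relIndex H ≤ 8 ∧
      (8 ≤ (Subgroup.centralizer (A : Set S)).relIndex H → ∃ g ∈ H, ∃ k ∈ H,
        g * k * g⁻¹ * k⁻¹ ∉ Subgroup.centralizer (A : Set S)) := by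
  classical
  haveI := E.normal
  set T : Finset (S × S) := ({e, z * e} : Finset S) ×ˢ ({f, z * f, e * f, e * (z * f)} : Finset S)
    with hT
  set t : S → S × S := fun g => (g * e * g⁻¹, g * f * g⁻¹) with ht
  have hee : e * e = 1 := E.sq e E.emem
  have hfinv : f⁻¹ = f := inv_eq_of_mul_eq_one_right (E.sq f E.fmem)
  have hTmem : ∀ g ∈ H, t g ∈ T := by
    intro g _
    refine Finset.mem_product.2 ⟨?_, ?_⟩
    · rcases E.eorb g with h1 | h1 <;> rw [mul_inv_eq_iff_eq_mul] at h1 <;> simp [ht, h1]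
    · set v := g * f * g⁻¹ with hv
      have hvA : v ∈ A := E.normal.conj_mem f E.fmem g
      have hback : f = g⁻¹ * v * g := by rw [hv]; group
      rcases E.decomp v hvA with h1 | h1 | h1 | h1
      · refine absurd (?_ : InZ z f) E.fnot.1
        rw [hback, mul_assoc, ← Subgroup.mem_center_iff.1 (E.setup.inZ_center h1) g,
          inv_mul_cancel_left]
        exact h1
      · refine absurd (?_ : InZ z (e * f)) E.fnot.2
        have hev := Subgroup.mem_center_iff.1 (E.setup.inZ_center h1)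
        have he1 := E.eorb g⁻¹
        have heq : e * f = g⁻¹ * e * g⁻¹⁻¹ * e⁻¹ * (e * v) := by
          calc e * f = e * (g⁻¹ * (e * (e * v)) * g) := by
                rw [hback, ← mul_assoc e e v, hee, one_mul]
            _ = e * (g⁻¹ * e * g) * (g⁻¹ * (e * v) * g) := by group
            _ = e * (g⁻¹ * e * g) * (e * v) := by
                rw [hev g⁻¹, inv_mul_cancel_right]
            _ = _ := by
                rw [inv_inv, inv_eq_of_mul_eq_one_right hee,
                  E.comm e E.emem (g⁻¹ * e * g) (E.normal.conj_mem' e E.emem g)]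
        rw [heq]
        exact E.setup.inZ_mul he1 h1
      · simp only [ht, Finset.mem_insert, Finset.mem_singleton]
        rw [← hv]
        rcases h1 with h1 | h1
        · left; rw [← hfinv]; exact eq_inv_of_mul_eq_one_right h1
        · right; left
          rw [show v = f⁻¹ * (f * v) by group, h1, hfinv, E.setup.comm_z f]
      · simp only [ht, Finset.mem_insert, Finset.mem_singleton]
        rw [← hv]
        have h2 : v = f⁻¹ * (e⁻¹ * (e * (f * v))) := by group
        rw [hfinv, inv_eq_of_mul_eq_one_right hee, ← mul_assoc, E.comm f E.fmem e E.emem] at h2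
        rcases h1 with h1 | h1 <;> rw [h1] at h2
        · right; right; left; rw [h2, mul_one]
        · right; right; right; rw [h2, mul_assoc, E.setup.comm_z f]
  have hinj : ∀ g ∈ H, ∀ k ∈ H, t g = t k → g⁻¹ * k ∈ Subgroup.centralizer (A : Set S) :=
    fun g _ k _ h1 => E.inv_mul_mem (congrArg Prod.fst h1) (congrArg Prod.snd h1)
  obtain ⟨hle, hsurj⟩ := relIndex_le_card _ H t T hTmem hinj
  have hcard : T.card ≤ 8 := by
    rw [hT, Finset.card_product]
    exact Nat.mul_le_mul Finset.card_le_two Finset.card_le_four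
  refine ⟨hle.trans hcard, fun h8 => ?_⟩
  have hs := hsurj (hcard.trans h8)
  obtain ⟨g, hg, hge⟩ := hs (z * e, f) (by simp [hT])
  obtain ⟨k, hk, hke⟩ := hs (e, e * f) (by simp [hT])
  simp only [ht, Prod.mk.injEq] at hge hke
  refine ⟨g, hg, k, hk, fun hC => E.setup.zne ?_⟩
  have h1 : (g * k) * f * (g * k)⁻¹ = z * (e * f) := by
    calc (g * k) * f * (g * k)⁻¹ = g * (k * f * k⁻¹) * g⁻¹ := by group
      _ = g * e * g⁻¹ * (g * f * g⁻¹) := by rw [hke.2]; group
      _ = z * (e * f) := by rw [hge.1, hge.2, mul_assoc]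
  have h2 : (k * g) * f * (k * g)⁻¹ = e * f := by
    calc (k * g) * f * (k * g)⁻¹ = k * (g * f * g⁻¹) * k⁻¹ := by group
      _ = e * f := by rw [hge.2, hke.2]
  have h3 : (g * k) * f * (g * k)⁻¹ = e * f := by
    calc (g * k) * f * (g * k)⁻¹
        = g * k * g⁻¹ * k⁻¹ * ((k * g) * f * (k * g)⁻¹) * (g * k * g⁻¹ * k⁻¹)⁻¹ := by group
      _ = g * k * g⁻¹ * k⁻¹ * (e * f) * (g * k * g⁻¹ * k⁻¹)⁻¹ := by rw [h2]
      _ = e * f := by
          rw [← Subgroup.mem_centralizer_iff.1 hC _ (mul_mem E.emem E.fmem), mul_inv_cancel_right]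
  rw [h1] at h3
  exact mul_eq_right.1 h3

/-- A subgroup inducing at least four automorphisms on `A` moves any eight elements of `C(A)`
that it contains. -/
theorem exists_moved (hS : IsPGroup 2 S) (H : Subgroup S)
    (hi : 4 ≤ (Subgroup.centralizer (A : Set S)).relIndex H)
    (hK : 8 ≤ Nat.card ↥(H ⊓ Subgroup.centralizer (A : Set S))) :
    ∃ g ∈ H, ∃ k ∈ H ⊓ Subgroup.centralizer (A : Set S), g * k * g⁻¹ * k⁻¹ ≠ 1 := by
  classical
  haveI := E.normal
  set C := Subgroup.centralizer (A : Set S) with hC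
  set K := H ⊓ C with hKdef
  by_contra hcon
  push Not at hcon
  have hfix : ∀ g ∈ H, ∀ k ∈ K, g * k * g⁻¹ = k := fun g hg k hk => mul_inv_eq_one.1 (hcon g hg k hk)
  have hnot : ¬ ∀ g ∈ H, g ∈ C := fun hall => by
    rw [Subgroup.relIndex_eq_one.2 hall] at hi; omega
  set M := K ⊓ A with hM
  have hzfix : ∀ g : S, g * z * g⁻¹ = z := E.setup.conj_z
  have hMlt : M < A := lt_of_le_of_ne inf_le_right fun he => hnot fun g hg => by
    refine Subgroup.mem_centralizer_iff.2 fun a ha => ?_
    have h' : a ∈ K ⊓ A := by rw [show K ⊓ A = A from he]; exact ha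
    have := hfix g hg a h'.1
    exact (mul_inv_eq_iff_eq_mul.1 this).symm
  have hM4 : 4 ≤ Nat.card M := by
    have h1 := Cores.card_sup_mul_card_inf K A
    have h2 : Nat.card ↥(K ⊔ A) ≤ 16 :=
      (Subgroup.card_le_of_le (sup_le inf_le_right E.le_centralizer)).trans
        (E.card_centralizer_le hS)
    rw [E.card, ← hM] at h1
    nlinarith
  obtain ⟨a, ha, haM⟩ := SetLike.exists_of_lt hMlt
  have hzM : z ∈ M := by
    by_contra hzM
    refine hnot fun g hg => Subgroup.mem_centralizer_iff.2 fun v hv => ?_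
    rcases mem_or_mul_mem E.card hMlt.le hM4 E.zmem hzM hv with h1 | h1
    · exact (mul_inv_eq_iff_eq_mul.1 (hfix g hg v h1.1)).symm
    · have h2 : g * v * g⁻¹ = v := by
        calc g * v * g⁻¹ = g * z * g⁻¹ * (g * (z⁻¹ * v) * g⁻¹) := by group
          _ = z * (z⁻¹ * v) := by rw [hzfix, hfix g hg _ h1.1]
          _ = v := by group
      exact (mul_inv_eq_iff_eq_mul.1 h2).symm
  haveI := Fintype.ofFinite M
  set T : Finset S := Finset.univ.image fun m : M => a * (m : S) with hT
  have hTmem : ∀ g ∈ H, g * a * g⁻¹ ∈ T := by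
    intro g hg
    rcases mem_or_mul_mem E.card hMlt.le hM4 ha haM (E.normal.conj_mem a ha g) with h1 | h1
    · refine absurd ?_ haM
      have h2 := hfix g⁻¹ (inv_mem hg) _ h1.1
      rw [show g⁻¹ * (g * a * g⁻¹) * g⁻¹⁻¹ = a by group] at h2
      rw [h2]; exact h1
    · exact Finset.mem_image.2 ⟨⟨_, h1⟩, Finset.mem_univ _, mul_inv_cancel_left _ _⟩
  have hinj : ∀ g ∈ H, ∀ k ∈ H, g * a * g⁻¹ = k * a * k⁻¹ → g⁻¹ * k ∈ C := by
    intro g hg k hk he
    refine Subgroup.mem_centralizer_iff.2 fun v hv => ?_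
    have hgk := mul_mem (inv_mem hg) hk
    have ha' : g⁻¹ * k * a * (g⁻¹ * k)⁻¹ = a := by
      calc g⁻¹ * k * a * (g⁻¹ * k)⁻¹ = g⁻¹ * (k * a * k⁻¹) * g := by group
        _ = a := by rw [← he]; group
    have hv' : g⁻¹ * k * v * (g⁻¹ * k)⁻¹ = v := by
      rcases mem_or_mul_mem E.card hMlt.le hM4 ha haM hv with h1 | h1
      · exact hfix _ hgk v h1.1
      · calc g⁻¹ * k * v * (g⁻¹ * k)⁻¹
            = g⁻¹ * k * a * (g⁻¹ * k)⁻¹ * (g⁻¹ * k * (a⁻¹ * v) * (g⁻¹ * k)⁻¹) := by group
          _ = a * (a⁻¹ * v) := by rw [ha', hfix _ hgk _ h1.1]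
          _ = v := by group
    exact (mul_inv_eq_iff_eq_mul.1 hv').symm
  have hTcard : T.card ≤ 4 := by
    refine Finset.card_image_le.trans ?_
    rw [Finset.card_univ, ← Nat.card_eq_fintype_card]
    exact card_le_four E.card hMlt
  obtain ⟨g, hg, hga⟩ := (relIndex_le_card C H _ T hTmem hinj).2 (hTcard.trans hi) (a * z)
    (Finset.mem_image.2 ⟨⟨z, hzM⟩, Finset.mem_univ _, rfl⟩)
  have hgC : g ∉ C := fun hgC => E.setup.zne (mul_eq_left.1 (hga.symm.trans (by
    rw [← Subgroup.mem_centralizer_iff.1 hgC a ha, mul_inv_cancel_right])))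
  have hInZ : ∀ v ∈ A, InZ z (g * v * g⁻¹ * v⁻¹) := by
    intro v hv
    rcases mem_or_mul_mem E.card hMlt.le hM4 ha haM hv with h1 | h1
    · left; rw [hfix g hg v h1.1, mul_inv_cancel]
    · right
      calc g * v * g⁻¹ * v⁻¹ = g * a * g⁻¹ * (g * (a⁻¹ * v) * g⁻¹) * v⁻¹ := by group
        _ = a * z * a⁻¹ := by rw [hga, hfix g hg _ h1.1]; group
        _ = z := E.setup.conj_z a
  obtain ⟨k, hk, hkM⟩ := SetLike.exists_of_lt (lt_of_le_of_ne (inf_le_left : M ≤ K) fun he => by
    have := card_le_four E.card hMlt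
    have h2 : Nat.card M = Nat.card K := congrArg (fun X : Subgroup S => Nat.card X) he
    omega)
  exact E.not_commute hS hgC (hInZ e E.emem) (hInZ f E.fmem) hk.2 (fun h1 => hkM ⟨hk, h1⟩)
    (mul_inv_eq_iff_eq_mul.1 (hfix g hg k hk))

/-- If moreover `C(A)` has order 16 and lies in the subgroup, the commutators take two
nontrivial values. -/
theorem exists_two_moved (hS : IsPGroup 2 S) (H : Subgroup S)
    (hi : 4 ≤ (Subgroup.centralizer (A : Set S)).relIndex H)
    (hK : 16 ≤ Nat.card ↥(H ⊓ Subgroup.centralizer (A : Set S))) :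
    ∃ g ∈ H, ∃ k ∈ H ⊓ Subgroup.centralizer (A : Set S),
      ∃ g' ∈ H, ∃ k' ∈ H ⊓ Subgroup.centralizer (A : Set S),
        g * k * g⁻¹ * k⁻¹ ≠ 1 ∧ g' * k' * g'⁻¹ * k'⁻¹ ≠ 1 ∧
          g * k * g⁻¹ * k⁻¹ ≠ g' * k' * g'⁻¹ * k'⁻¹ := by
  classical
  haveI := E.normal
  set C := Subgroup.centralizer (A : Set S) with hC
  have hCH : C ≤ H := by
    have := Subgroup.eq_of_le_of_card_ge (inf_le_right : H ⊓ C ≤ C)
      ((E.card_centralizer_le hS).trans hK)
    exact this ▸ inf_le_left
  obtain ⟨g₀, hg₀, k₀, hk₀, hv0⟩ := E.exists_moved hS H hi (le_trans (by norm_num) hK)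
  by_contra hcon
  push Not at hcon
  set v := g₀ * k₀ * g₀⁻¹ * k₀⁻¹ with hv
  have hall : ∀ g ∈ H, ∀ k ∈ C, g * k * g⁻¹ * k⁻¹ = 1 ∨ g * k * g⁻¹ * k⁻¹ = v := by
    intro g hg k hk
    by_cases h1 : g * k * g⁻¹ * k⁻¹ = 1
    · exact Or.inl h1
    · exact Or.inr (hcon g hg k ⟨hCH hk, hk⟩ g₀ hg₀ k₀ hk₀ h1 hv0)
  obtain ⟨g₁, hg₁, hg₁C⟩ : ∃ g ∈ H, g ∉ C := by
    by_contra hno
    push Not at hno
    rw [Subgroup.relIndex_eq_one.2 hno] at hi; omega
  obtain ⟨a₁, ha₁, ha₁v⟩ : ∃ a ∈ A, g₁ * a * g₁⁻¹ * a⁻¹ = v := by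
    by_contra hno
    push Not at hno
    refine hg₁C (Subgroup.mem_centralizer_iff.2 fun a ha => ?_)
    have := (hall g₁ hg₁ a (E.le_centralizer ha)).resolve_right (hno a ha)
    rw [mul_inv_eq_one, mul_inv_eq_iff_eq_mul] at this
    exact this.symm
  have hvA : v ∈ A := ha₁v ▸ mul_mem (E.normal.conj_mem a₁ ha₁ g₁) (inv_mem ha₁)
  by_cases hvz : InZ z v
  · have hInZ : ∀ g ∈ H, ∀ a ∈ A, InZ z (g * a * g⁻¹ * a⁻¹) := fun g hg a ha => by
      rcases hall g hg a (E.le_centralizer ha) with h1 | h1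
      · exact Or.inl h1
      · rw [h1]; exact hvz
    obtain ⟨c, hc, hcA⟩ := SetLike.exists_of_lt (lt_of_le_of_ne E.le_centralizer fun he => by
      have := hK.trans (Subgroup.card_le_of_le inf_le_right)
      rw [hC, ← he, E.card] at this
      omega)
    have hne : ∀ d ∈ C, d ∉ A → g₁ * d ≠ d * g₁ := fun d hd hdA =>
      E.not_commute hS hg₁C (hInZ g₁ hg₁ e E.emem) (hInZ g₁ hg₁ f E.fmem) hd hdA
    rcases hall g₁ hg₁ c hc with h1 | h1
    · rw [mul_inv_eq_one, mul_inv_eq_iff_eq_mul] at h1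
      exact hne c hc hcA h1
    · refine hne (c * a₁) (mul_mem hc (E.le_centralizer ha₁)) (fun h2 => hcA
        ((Subgroup.mul_mem_cancel_right _ ha₁).1 h2)) ?_
      rw [← mul_inv_eq_iff_eq_mul, show g₁ * (c * a₁) * g₁⁻¹ =
        (g₁ * c * g₁⁻¹ * c⁻¹) * c * ((g₁ * a₁ * g₁⁻¹ * a₁⁻¹) * a₁) by group, h1, ha₁v,
        show v * c * (v * a₁) = v * (c * v) * a₁ by group,
        ← Subgroup.mem_centralizer_iff.1 hc v hvA,
        show v * (v * c) * a₁ = (v * v) * (c * a₁) by group, E.sq v hvA, one_mul]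
  · set M := A ⊓ Subgroup.centralizer (H : Set S) with hM
    have hvH : v ∈ M := ⟨hvA, Subgroup.mem_centralizer_iff.2 fun g hg => by
      rcases hall g hg v (E.le_centralizer hvA) with h1 | h1
      · exact mul_inv_eq_iff_eq_mul.1 (mul_inv_eq_one.1 h1)
      · rw [mul_inv_eq_iff_eq_mul, E.sq v hvA, conj_eq_one_iff] at h1
        exact absurd (Or.inl h1) hvz⟩
    have hzM : z ∈ M := ⟨E.zmem, Subgroup.mem_centralizer_iff.2 fun g _ => E.setup.comm_z g⟩
    have hMlt : M < A := lt_of_le_of_ne inf_le_left fun he => hg₁C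
      (Subgroup.mem_centralizer_iff.2 fun a ha => by
        have h' : a ∈ A ⊓ Subgroup.centralizer (H : Set S) := by
          rw [show A ⊓ Subgroup.centralizer (H : Set S) = A from he]; exact ha
        exact (Subgroup.mem_centralizer_iff.1 h'.2 g₁ hg₁).symm)
    have hM4 : 4 ≤ Nat.card M := by
      haveI := Fintype.ofFinite M
      have hsub : ({1, z, v, v * z} : Finset S) ⊆ Finset.univ.image (Subtype.val : M → S) := by
        intro w hw
        simp only [Finset.mem_insert, Finset.mem_singleton] at hw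
        refine Finset.mem_image.2 ⟨⟨w, ?_⟩, Finset.mem_univ _, rfl⟩
        rcases hw with rfl | rfl | rfl | rfl
        exacts [one_mem _, hzM, hvH, mul_mem hvH hzM]
      have h4 : ({1, z, v, v * z} : Finset S).card = 4 := by
        rw [Finset.card_insert_of_notMem, Finset.card_insert_of_notMem, Finset.card_pair]
        · exact fun e1 => E.setup.zne (mul_eq_left.1 e1.symm)
        · simp only [Finset.mem_insert, Finset.mem_singleton, not_or]
          exact ⟨fun e1 => hvz (Or.inr e1.symm), fun e1 => hvz (Or.inl (mul_eq_right.1 e1.symm))⟩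
        · simp only [Finset.mem_insert, Finset.mem_singleton, not_or]
          refine ⟨E.setup.zne.symm, fun e1 => hvz (Or.inl e1.symm), fun e1 => hvz (Or.inr ?_)⟩
          rw [← E.setup.inv_eq]; exact eq_inv_of_mul_eq_one_left e1.symm
      have := (Finset.card_le_card hsub).trans Finset.card_image_le
      rwa [h4, Finset.card_univ, ← Nat.card_eq_fintype_card] at this
    obtain ⟨a, ha, haM⟩ := SetLike.exists_of_lt hMlt
    have h2 : C.relIndex H ≤ ({a, v * a} : Finset S).card := by
      refine (relIndex_le_card C H (fun g => g * a * g⁻¹) _ (fun g hg => ?_)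
        fun g hg k hk he => ?_).1
      · rcases hall g hg a (E.le_centralizer ha) with h1 | h1
        · simp [mul_inv_eq_one.1 h1]
        · simp [mul_inv_eq_iff_eq_mul.1 h1]
      · refine Subgroup.mem_centralizer_iff.2 fun w hw => ?_
        have hgk := mul_mem (inv_mem hg) hk
        have ha' : g⁻¹ * k * a = a * (g⁻¹ * k) := by
          calc g⁻¹ * k * a = g⁻¹ * (k * a * k⁻¹) * k := by group
            _ = a * (g⁻¹ * k) := by rw [← he]; group
        rcases mem_or_mul_mem E.card hMlt.le hM4 ha haM hw with h1 | h1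
        · exact (Subgroup.mem_centralizer_iff.1 h1.2 _ hgk).symm
        · have h3 : Commute (g⁻¹ * k) (a⁻¹ * w) := Subgroup.mem_centralizer_iff.1 h1.2 _ hgk
          have h4 := (show Commute (g⁻¹ * k) a from ha').mul_right h3
          rw [mul_inv_cancel_left] at h4
          exact h4.eq.symm
    have : ({a, v * a} : Finset S).card ≤ 2 := Finset.card_le_two
    omega

/-- An elementary abelian quotient of a subgroup of `S` has order at most sixteen. -/
theorem card_le_sixteen (hS : IsPGroup 2 S) (H : Subgroup S) {V : Type*} [Group V] [Finite V]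
    (hcomm : ∀ a b : V, a * b = b * a) (φ : H →* V) (hφ : Function.Surjective φ) :
    Nat.card V ≤ 16 := by
  classical
  haveI : Fact (Nat.Prime 2) := ⟨Nat.prime_two⟩
  haveI := E.normal
  set C := Subgroup.centralizer (A : Set S) with hC
  haveI hCn : C.Normal := E.centralizer_normal
  set Kc := C.subgroupOf H with hKc
  haveI : Kc.Normal := hCn.subgroupOf H
  set i := C.relIndex H with hi
  have hKcard : Nat.card Kc = Nat.card ↥(H ⊓ C) := by
    rw [← Subgroup.card_map_of_injective H.subtype_injective, hKc, Subgroup.subgroupOf_map_subtype,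
      inf_comm]
  have hKle : Nat.card Kc ≤ 16 :=
    hKcard ▸ (Subgroup.card_le_of_le inf_le_right).trans (E.card_centralizer_le hS)
  set ψ := φ.comp Kc.subtype with hψ
  have hcardK : Nat.card ψ.range * Nat.card ψ.ker = Nat.card Kc := by
    rw [← Nat.card_congr (QuotientGroup.quotientKerEquivRange ψ).toEquiv,
      ← Subgroup.card_eq_card_quotient_mul_card_subgroup]
  have hV : Nat.card V = (Kc ⊔ φ.ker).index * Nat.card ψ.range := by
    have h1 : ψ.range = Kc.map φ := by
      rw [hψ, MonoidHom.range_comp, Subgroup.range_subtype]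
    rw [h1, ← (Kc.map φ).card_mul_index, Subgroup.index_map, MonoidHom.range_eq_top.2 hφ,
      Subgroup.index_top, mul_one, mul_comm]
  obtain ⟨hile, hicomm⟩ := E.relIndex_le_eight H
  rw [← hC, ← hi] at hile hicomm
  have hjdvd : (Kc ⊔ φ.ker).index ∣ i := Subgroup.index_dvd_of_le le_sup_left
  have hipos : i ≠ 0 := Subgroup.index_ne_zero_of_finite
  obtain ⟨s, hs⟩ : ∃ s, i = 2 ^ s := by
    obtain ⟨s, -, hs⟩ := (Nat.dvd_prime_pow Nat.prime_two).1
      ((IsPGroup.iff_card.1 (hS.to_subgroup H)).choose_spec ▸ Kc.index_dvd_card)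
    exact ⟨s, hs⟩
  have hj4 : (Kc ⊔ φ.ker).index ≤ 4 := by
    have hjle := Nat.le_of_dvd (Nat.pos_of_ne_zero hipos) hjdvd
    by_contra hj
    push Not at hj
    have hs3 : s ≤ 3 := by
      by_contra hs3
      push Not at hs3
      have : 2 ^ 4 ≤ 2 ^ s := Nat.pow_le_pow_right two_pos hs3
      omega
    interval_cases s <;> norm_num at hs <;> first | omega | skip
    obtain ⟨g, hg, k, hk, hgk⟩ := hicomm (by omega)
    have h8 : (Kc ⊔ φ.ker).index = 8 := by
      obtain ⟨d, hd⟩ := hs ▸ hjdvd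
      have : d ≤ 1 := by nlinarith
      interval_cases d <;> omega
    have heq : Kc ⊔ φ.ker = Kc := by
      have h1 := (Kc ⊔ φ.ker).card_mul_index
      rw [h8, ← Kc.card_mul_index, show Kc.index = 8 from hs] at h1
      exact (Subgroup.eq_of_le_of_card_ge le_sup_left (by omega)).symm
    refine hgk (show (⟨g, hg⟩ * ⟨k, hk⟩ * ⟨g, hg⟩⁻¹ * ⟨k, hk⟩⁻¹ : H) ∈ Kc from ?_)
    rw [← heq]
    refine Subgroup.mem_sup_right (MonoidHom.mem_ker.2 ?_)
    rw [map_mul, map_mul, map_mul, map_inv, map_inv, hcomm (φ ⟨g, hg⟩)]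
    group
  -- commutators in the kernel
  have hker : ∀ g ∈ H, ∀ k ∈ H ⊓ C, ∃ d : ψ.ker, (((d : Kc) : H) : S) = g * k * g⁻¹ * k⁻¹ := by
    intro g hg k hk
    refine ⟨⟨⟨⟨g * k * g⁻¹ * k⁻¹, mul_mem (mul_mem (mul_mem hg hk.1) (inv_mem hg)) (inv_mem hk.1)⟩,
      ?_⟩, ?_⟩, rfl⟩
    · exact mul_mem (hCn.conj_mem k hk.2 g) (inv_mem hk.2)
    · rw [MonoidHom.mem_ker]
      show φ ((⟨g, hg⟩ : H) * ⟨k, hk.1⟩ * ⟨g, hg⟩⁻¹ * ⟨k, hk.1⟩⁻¹) = 1
      rw [map_mul, map_mul, map_mul, map_inv, map_inv, hcomm (φ ⟨g, hg⟩)]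
      group
  rw [hV]
  have hrpos : 0 < Nat.card ψ.range := Nat.card_pos
  have hkpos : 0 < Nat.card ψ.ker := Nat.card_pos
  by_cases hi1 : i ≤ 1
  · have := Nat.le_of_dvd (Nat.pos_of_ne_zero hipos) hjdvd
    nlinarith
  by_cases hi4 : 4 ≤ i
  · -- at most four elements survive in the image of `C`
    suffices hr : Nat.card ψ.range ≤ 4 from
      (Nat.mul_le_mul hj4 hr).trans (le_of_eq rfl)
    by_contra hr
    push Not at hr
    obtain ⟨g, hg, k, hk, hgk⟩ := E.exists_moved hS H hi4 (by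
      rw [← hKcard, ← hcardK]
      obtain ⟨t, ht⟩ := IsPGroup.iff_card.1 (((hS.to_subgroup H).to_subgroup Kc))
      have h5 : 5 ≤ 2 ^ t := by rw [← ht, ← hcardK]; nlinarith
      rw [hcardK, ht]
      rcases t with _ | _ | _ | t
      · norm_num at h5
      · norm_num at h5
      · norm_num at h5
      · exact Nat.pow_le_pow_right two_pos (by omega : 3 ≤ t + 3))
    have hk2 : 2 ≤ Nat.card ψ.ker := by
      by_contra hlt
      obtain ⟨d, hd⟩ := hker g hg k hk
      have hd1 : d = 1 := by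
        haveI : Subsingleton ψ.ker := (Finite.card_le_one_iff_subsingleton).1 (by omega)
        exact Subsingleton.elim _ _
      rw [hd1] at hd
      exact hgk hd.symm
    have h10 : 16 ≤ Nat.card Kc := by
      obtain ⟨t, ht⟩ := IsPGroup.iff_card.1 (((hS.to_subgroup H).to_subgroup Kc))
      have h5 : 10 ≤ 2 ^ t := by rw [← ht, ← hcardK]; nlinarith
      rw [ht]
      rcases t with _ | _ | _ | _ | t
      · norm_num at h5
      · norm_num at h5
      · norm_num at h5
      · norm_num at h5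
      · exact Nat.pow_le_pow_right two_pos (by omega : 4 ≤ t + 4)
    obtain ⟨g, hg, k, hk, g', hg', k', hk', h1, h2, h3⟩ :=
      E.exists_two_moved hS H hi4 (hKcard ▸ h10)
    obtain ⟨d, hd⟩ := hker g hg k hk
    obtain ⟨d', hd'⟩ := hker g' hg' k' hk'
    have hk3 : 3 ≤ Nat.card ψ.ker := by
      haveI := Fintype.ofFinite ψ.ker
      have hc : ({1, d, d'} : Finset ψ.ker).card = 3 := by
        rw [Finset.card_insert_of_notMem, Finset.card_pair]
        · intro he
          rw [he, hd'] at hd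
          exact h3 hd.symm
        · simp only [Finset.mem_insert, Finset.mem_singleton, not_or]
          constructor <;> intro he
          · rw [← he] at hd
            exact h1 hd.symm
          · rw [← he] at hd'
            exact h2 hd'.symm
      rw [Nat.card_eq_fintype_card, ← hc]
      exact Finset.card_le_univ _
    have hprod : Nat.card ψ.range * Nat.card ψ.ker ≤ 16 := hcardK.trans_le hKle
    obtain ⟨t, ht⟩ := IsPGroup.iff_card.1 ((((hS.to_subgroup H).to_subgroup Kc)).to_subgroup ψ.ker)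
    rcases t with _ | _ | t
    · rw [pow_zero] at ht; omega
    · rw [pow_one] at ht; omega
    · have : 4 ≤ Nat.card ψ.ker := by
        rw [ht]; exact Nat.pow_le_pow_right two_pos (by omega : 2 ≤ t + 2)
      nlinarith
  · -- index two
    have hi2 : i = 2 := by
      rcases s with _ | _ | s
      · norm_num at hs; omega
      · norm_num at hs; exact hs
      · have : 4 ≤ 2 ^ (s + 2) := Nat.pow_le_pow_right two_pos (by omega : 2 ≤ s + 2)
        omega
    have hj2 : (Kc ⊔ φ.ker).index ≤ 2 :=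
      (Nat.le_of_dvd (Nat.pos_of_ne_zero hipos) hjdvd).trans hi2.le
    suffices hr : Nat.card ψ.range ≤ 8 from (Nat.mul_le_mul hj2 hr).trans (le_of_eq rfl)
    by_contra hr
    push Not at hr
    have hk1 : Nat.card ψ.ker = 1 := by
      by_contra hne
      have : 2 ≤ Nat.card ψ.ker := by omega
      nlinarith
    have hKC : H ⊓ C = C := Subgroup.eq_of_le_of_card_ge inf_le_right
      ((E.card_centralizer_le hS).trans (by
        rw [← hKcard, ← hcardK, hk1, mul_one]
        obtain ⟨t, ht⟩ := IsPGroup.iff_card.1 ((((hS.to_subgroup H).to_subgroup Kc)).to_quotient ψ.ker)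
        rw [Nat.card_congr (QuotientGroup.quotientKerEquivRange ψ).toEquiv] at ht
        rw [ht] at hr ⊢
        rcases t with _ | _ | _ | _ | t
        · norm_num at hr
        · norm_num at hr
        · norm_num at hr
        · norm_num at hr
        · exact Nat.pow_le_pow_right two_pos (by omega : 4 ≤ t + 4)))
    obtain ⟨g, hg, hgC⟩ : ∃ g ∈ H, g ∉ C := by
      by_contra hno
      push Not at hno
      have : i = 1 := Subgroup.relIndex_eq_one.2 hno
      omega
    refine hgC (Subgroup.mem_centralizer_iff.2 fun a ha => ?_)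
    have haK : a ∈ H ⊓ C := hKC.symm ▸ E.le_centralizer ha
    obtain ⟨d, hd⟩ := hker g hg a haK
    haveI : Subsingleton ψ.ker := (Finite.card_le_one_iff_subsingleton).1 hk1.le
    rw [Subsingleton.elim d 1] at hd
    have h1 : g * a * g⁻¹ * a⁻¹ = 1 := hd.symm
    rw [mul_inv_eq_one, mul_inv_eq_iff_eq_mul] at h1
    exact h1.symm

end Eight

end Cfsg.Agent.PGroups.Q8Q8
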